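import Mathlib
import Cfsg.Agent.Lib.LocalEven.BlockModule
import Cfsg.Agent.Lib.LocalEven.SubBlock.SL3
import Cfsg.Agent.Lib.Classical.SmallIso.PSL2
import Cfsg.Agent.Lib.Components.SLBlock
import Cfsg.Agent.Lib.Cores.Components

/-!
The natural module of the derived group of `SL₂` over a finite field of characteristic three.
-/

set_option autoImplicit false

namespace CfsgLib.LocalEven.BlockCentral.Lin

open Subgroup Matrix Cfsg
open CfsgLib.LocalEven.BlockModule (uU uL gW gW_mem)

variable {F : Type*} [Field F] [Fintype F] {n : ℕ}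

local notation "SL" => Matrix.SpecialLinearGroup (Fin 2) F
local notation "RR" => commutator (Matrix.SpecialLinearGroup (Fin 2) F)

/-- The Weyl element. -/
def wW : SL := ⟨!![0, -1; 1, 0], by simp [Matrix.det_fin_two]⟩

/-- The action on vectors. -/
abbrev act (M : Matrix.SpecialLinearGroup (Fin 2) F) (v : Fin 2 → F) : Fin 2 → F :=
  (M : Matrix (Fin 2) (Fin 2) F) *ᵥ v

omit [Fintype F] in
theorem act_mul (M N : SL) (v : Fin 2 → F) : act (M * N) v = act M (act N v) := by
  rw [act, act, act, Matrix.SpecialLinearGroup.coe_mul, Matrix.mulVec_mulVec]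

omit [Fintype F] in
theorem act_ext {M N : SL} (h : ∀ v, act M v = act N v) : M = N :=
  Subtype.ext (Matrix.ext_of_mulVec_single fun i => h _)

omit [Fintype F] in
theorem act_uU (a : F) (v : Fin 2 → F) : act (uU a) v = ![v 0 + a * v 1, v 1] := by
  ext i; fin_cases i <;> simp [act, uU, Matrix.mulVec, dotProduct, Fin.sum_univ_two]

omit [Fintype F] in
theorem act_uL (a : F) (v : Fin 2 → F) : act (uL a) v = ![v 0, a * v 0 + v 1] := by
  ext i; fin_cases i <;> simp [act, uL, Matrix.mulVec, dotProduct, Fin.sum_univ_two]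

omit [Fintype F] in
theorem act_wW (v : Fin 2 → F) : act (wW : SL) v = ![-v 1, v 0] := by
  ext i; fin_cases i <;> simp [act, wW, Matrix.mulVec, dotProduct, Fin.sum_univ_two]

omit [Fintype F] in
theorem act_gW (v : Fin 2 → F) : act (gW : SL) v = ![v 0 - v 1, -v 0 + 2 * v 1] := by
  ext i
  fin_cases i
  · simp [act, gW, Matrix.mulVec, dotProduct, Fin.sum_univ_two]; ring
  · simp [act, gW, Matrix.mulVec, dotProduct, Fin.sum_univ_two]

theorem three_eq_zero (hn : Fintype.card F = 3 ^ n) : (3 : F) = 0 := by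
  have h0 : ((Fintype.card F : ℕ) : F) = 0 := FiniteField.cast_card_eq_zero F
  rw [hn, Nat.cast_pow] at h0
  exact eq_zero_of_pow_eq_zero (by simpa using h0)

theorem two_ne_zero' (hn : Fintype.card F = 3 ^ n) : (2 : F) ≠ 0 := fun h =>
  one_ne_zero (α := F) (by linear_combination three_eq_zero hn - h)

theorem charP_three (hn : Fintype.card F = 3 ^ n) : CharP F 3 :=
  (CharP.charP_iff_prime_eq_zero Nat.prime_three).2 (by exact_mod_cast three_eq_zero hn)

theorem three_or_four (hn : Fintype.card F = 3 ^ n) : Fintype.card F = 3 ∨ 4 ≤ Fintype.card F := by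
  match n, hn with
  | 0, h => exact absurd (h ▸ Fintype.one_lt_card : 1 < 3 ^ 0) (by norm_num)
  | 1, h => exact Or.inl (by simpa using h)
  | (k + 2), h =>
    right
    rw [h]
    calc 4 ≤ 3 ^ 2 := by norm_num
      _ ≤ 3 ^ (k + 2) := Nat.pow_le_pow_right (by norm_num) (by omega)

theorem commutator_eq_top (h4 : 4 ≤ Fintype.card F) : RR = ⊤ :=
  CfsgLib.Classical.SmallIso.commutator_sl_two h4

theorem neg_one_mem (hn : Fintype.card F = 3 ^ n) : (-1 : SL) ∈ RR := by
  rcases three_or_four hn with h | h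
  · exact (LocalEven.SubBlock.SL3.mem_commutator_iff h _).2 (Or.inr (Or.inl rfl))
  · rw [commutator_eq_top h]; exact mem_top _

theorem wW_mem (hn : Fintype.card F = 3 ^ n) : (wW : SL) ∈ RR := by
  rcases three_or_four hn with h | h
  · refine (LocalEven.SubBlock.SL3.mem_commutator_iff h _).2 (Or.inr (Or.inr ?_))
    ext i j
    rw [Matrix.SpecialLinearGroup.coe_mul]
    fin_cases i <;> fin_cases j <;> simp [wW, Matrix.mul_apply, Fin.sum_univ_two]
  · rw [commutator_eq_top h]; exact mem_top _

omit [Fintype F] in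
/-- An element of order two is `-1`. -/
theorem eq_neg_one (h2 : (2 : F) ≠ 0) {M : SL} (hM : M * M = 1) (h1 : M ≠ 1) : M = -1 := by
  have hd := M.2
  rw [Matrix.det_fin_two] at hd
  have e : ∀ i j, ((M * M : SL) : Matrix (Fin 2) (Fin 2) F) i j = (1 : Matrix (Fin 2) (Fin 2) F) i j := by
    rw [hM]; simp
  have e00 := e 0 0; have e01 := e 0 1; have e10 := e 1 0; have e11 := e 1 1
  simp [Matrix.mul_apply, Fin.sum_univ_two] at e00 e01 e10 e11
  set a := M.1 0 0; set b := M.1 0 1; set c := M.1 1 0; set d := M.1 1 1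
  have ht : (a + d) * a = 2 := by linear_combination e00 + hd
  have ht0 : a + d ≠ 0 := fun h => h2 (by linear_combination -ht + a * h)
  have hb : b = 0 := (mul_eq_zero.1 (show (a + d) * b = 0 by linear_combination e01)).resolve_left ht0
  have hc : c = 0 := (mul_eq_zero.1 (show (a + d) * c = 0 by linear_combination e10)).resolve_left ht0
  have had : a = d := by
    have : (a + d) * (a - d) = 0 := by linear_combination e00 - e11
    exact sub_eq_zero.1 ((mul_eq_zero.1 this).resolve_left ht0)
  have haa : a * a = 1 := by linear_combination hd + c * hb + a * had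
  rcases mul_self_eq_one_iff.1 haa with h | h
  · refine absurd ?_ h1
    ext i j; fin_cases i <;> fin_cases j <;> simp [← had, h, hb, hc, a, b, c, d] at * <;> simp_all
  · ext i j; fin_cases i <;> fin_cases j <;> simp [a, b, c, d] at * <;> simp_all

/-- An additive map commuting with `RR` is a scalar. -/
theorem comm_scalar (hn : Fintype.card F = 3 ^ n) (χ : (Fin 2 → F) →+ (Fin 2 → F))
    (h : ∀ r ∈ RR, ∀ v, χ (act r v) = act r (χ v)) : ∃ k : F, ∀ v, χ v = k • v := by
  classical
  have h2 := two_ne_zero' hn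
  let α : F →+ F :=
    { toFun := fun x => χ ![x, 0] 0
      map_zero' := by rw [show (![0, 0] : Fin 2 → F) = 0 by ext i; fin_cases i <;> simp, map_zero]; rfl
      map_add' := fun x y => by
        rw [show (![x + y, 0] : Fin 2 → F) = ![x, 0] + ![y, 0] by ext i; fin_cases i <;> simp, map_add]; rfl }
  let γ : F →+ F :=
    { toFun := fun x => χ ![x, 0] 1
      map_zero' := by rw [show (![0, 0] : Fin 2 → F) = 0 by ext i; fin_cases i <;> simp, map_zero]; rfl
      map_add' := fun x y => by
        rw [show (![x + y, 0] : Fin 2 → F) = ![x, 0] + ![y, 0] by ext i; fin_cases i <;> simp, map_add]; rfl }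
  have hx : ∀ x : F, χ ![x, 0] = ![α x, γ x] := fun x => by
    ext i; fin_cases i <;> rfl
  have hy : ∀ y : F, χ ![0, y] = ![-γ y, α y] := by
    intro y
    have h1 := h _ (wW_mem hn) ![y, 0]
    rw [act_wW, act_wW, hx] at h1
    simpa using h1
  have hv : ∀ v : Fin 2 → F, χ v = ![α (v 0) - γ (v 1), γ (v 0) + α (v 1)] := by
    intro v
    rw [show v = ![v 0, 0] + ![0, v 1] by ext i; fin_cases i <;> simp, map_add, hx, hy]
    ext i; fin_cases i <;> simp [sub_eq_add_neg]
  have hg : ∀ x, γ x = 0 := by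
    intro x
    have h1 := congrFun (h _ gW_mem ![x, 0]) 0
    rw [act_gW, act_gW, hx, hv] at h1
    simp only [Matrix.cons_val_zero, Matrix.cons_val_one, sub_zero, mul_zero, add_zero, map_neg] at h1
    have : (2 : F) * γ x = 0 := by linear_combination h1
    exact (mul_eq_zero.1 this).resolve_left h2
  refine ⟨α 1, fun v => ?_⟩
  have hα : ∀ c, α c = α 1 * c := by
    intro c
    rcases three_or_four hn with hq | hq
    · have e := ZMod.ringEquivOfPrime F Nat.prime_three hq
      obtain ⟨m, rfl⟩ : ∃ m : ℕ, (m : F) = c := ⟨(e.symm c).val, by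
        have := map_natCast e (e.symm c).val
        rw [ZMod.natCast_zmod_val, e.apply_symm_apply] at this
        exact this.symm⟩
      rw [← nsmul_one m, map_nsmul, nsmul_eq_mul, nsmul_eq_mul, mul_one, mul_comm]
    · have h1 := congrFun (h (uU c) (by rw [commutator_eq_top hq]; exact mem_top _) ![0, 1]) 0
      rw [act_uU, act_uU, hy, hv] at h1
      simp [hg] at h1
      rw [mul_comm, ← h1]
  rw [hv]
  ext i
  fin_cases i <;> simp [hg, ← hα]

theorem scalar_of_comm (hn : Fintype.card F = 3 ^ n) {M : SL} (h : ∀ r ∈ RR, M * r = r * M) :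
    M = 1 ∨ M = -1 := by
  obtain ⟨k, hk⟩ := comm_scalar hn (Matrix.mulVecLin (M : Matrix (Fin 2) (Fin 2) F)).toAddMonoidHom
    (fun r hr v => by
      show act M (act r v) = act r (act M v)
      rw [← act_mul, ← act_mul, h r hr])
  by_cases hM : M = 1
  · exact Or.inl hM
  refine Or.inr (eq_neg_one (two_ne_zero' hn) ?_ hM)
  have e00 := congrFun (hk ![1, 0]) 0
  have e10 := congrFun (hk ![1, 0]) 1
  have e01 := congrFun (hk ![0, 1]) 0
  have e11 := congrFun (hk ![0, 1]) 1
  simp [Matrix.mulVec, dotProduct, Fin.sum_univ_two] at e00 e10 e01 e11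
  have hd := M.2
  rw [Matrix.det_fin_two, e00, e10, e01, e11] at hd
  refine act_ext fun v => ?_
  have hMk : ∀ v, act M v = k • v := hk
  rw [act_mul, hMk, hMk, smul_smul, show k * k = 1 by linear_combination hd, one_smul]
  simp [act]

theorem neg_one_mem_of_normal (hn : Fintype.card F = 3 ^ n) {N : Subgroup SL} (hN : N ≤ RR)
    (hnor : ∀ r ∈ RR, ∀ m ∈ N, r * m * r⁻¹ ∈ N) {m : SL} (hm : m ∈ N) (hm1 : m ≠ 1) : (-1 : SL) ∈ N := by
  rcases three_or_four hn with h | h
  · rcases (LocalEven.SubBlock.SL3.mem_commutator_iff h m).1 (hN hm) with h1 | h1 | h1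
    · exact absurd h1 hm1
    · exact h1 ▸ hm
    · exact h1 ▸ mul_mem hm hm
  · have htop := commutator_eq_top (F := F) h
    haveI hnn : N.Normal := ⟨fun a ha g => hnor g (htop ▸ mem_top g) a ha⟩
    rcases CfsgLib.Cores.normal_eq_top_or_le_center_of_isQuasisimple
      (Components.SLBlock.isQuasisimple_SL (Or.inr ⟨Fintype.card_fin 2, h⟩)) N with h1 | h1
    · rw [h1]; exact mem_top _
    · rcases scalar_of_comm hn (M := m) (fun r _ => (mem_center_iff.1 (h1 hm) r).symm) with h2 | h2
      · exact absurd h2 hm1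
      · exact h2 ▸ hm

/-- An invariant alternating form factors through the determinant. -/
theorem form_det (hn : Fintype.card F = 3 ^ n) {Z : Type*} [CommGroup Z]
    (f : (Fin 2 → F) → (Fin 2 → F) → Z)
    (hl : ∀ u u' v, f (u + u') v = f u v * f u' v) (halt : ∀ v, f v v = 1)
    (hr : ∀ u v v', f u (v + v') = f u v * f u v')
    (hinv : ∀ r ∈ RR, ∀ u v, f (act r u) (act r v) = f u v) (u v : Fin 2 → F) :
    f u v = f ![1, 0] ![0, u 0 * v 1 - u 1 * v 0] := by
  have hl0 : ∀ v, f 0 v = 1 := fun v => by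
    have := hl 0 0 v; rw [add_zero] at this; exact left_eq_mul.1 this
  have hr0 : ∀ u, f u 0 = 1 := fun u => by
    have := hr u 0 0; rw [add_zero] at this; exact left_eq_mul.1 this
  have hanti : ∀ u v, f v u = (f u v)⁻¹ := fun u v => by
    have := halt (u + v)
    rw [hl, hr, hr, halt, halt, one_mul, mul_one, mul_comm] at this
    exact eq_inv_of_mul_eq_one_left this
  let g : F → F → Z := fun a b => f ![a, 0] ![0, b]
  have hg1 : ∀ a a' b, g (a + a') b = g a b * g a' b := fun a a' b => by
    show f _ _ = _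
    rw [show (![a + a', 0] : Fin 2 → F) = ![a, 0] + ![a', 0] by ext i; fin_cases i <;> simp, hl]
  have hg2 : ∀ a b b', g a (b + b') = g a b * g a b' := fun a b b' => by
    show f _ _ = _
    rw [show (![0, b + b'] : Fin 2 → F) = ![0, b] + ![0, b'] by ext i; fin_cases i <;> simp, hr]
  have key : (∀ a b, f ![a, 0] ![b, 0] = 1) ∧ (∀ a b, f ![0, a] ![0, b] = 1) ∧
      ∀ a b, g a b = g 1 (a * b) := by
    rcases three_or_four hn with hq | hq
    · have e := ZMod.ringEquivOfPrime F Nat.prime_three hq
      have hcases : ∀ a : F, a = 0 ∨ a = 1 ∨ a = -1 := by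
        intro a
        have : ∀ x : ZMod 3, x = 0 ∨ x = 1 ∨ x = -1 := by decide
        rcases this (e.symm a) with h | h | h <;> rw [RingEquiv.symm_apply_eq] at h <;> simp [h]
      have hneg1 : ∀ u v, f (-u) v = (f u v)⁻¹ := fun u v => by
        refine eq_inv_of_mul_eq_one_left ?_
        rw [← hl, neg_add_cancel, hl0]
      refine ⟨fun a b => ?_, fun a b => ?_, fun a b => ?_⟩
      · have z : (![0, 0] : Fin 2 → F) = 0 := by ext i; fin_cases i <;> simp
        have nz : (![-1, 0] : Fin 2 → F) = -![1, 0] := by ext i; fin_cases i <;> simp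
        have hh : ∀ b, f ![1, 0] ![b, 0] = 1 := fun b => by
          rcases hcases b with rfl | rfl | rfl
          · rw [z, hr0]
          · exact halt _
          · rw [nz, hanti, hneg1, halt]; simp
        rcases hcases a with rfl | rfl | rfl
        · rw [z, hl0]
        · exact hh b
        · rw [nz, hneg1, hh, inv_one]
      · have z : (![0, 0] : Fin 2 → F) = 0 := by ext i; fin_cases i <;> simp
        have nz : (![0, -1] : Fin 2 → F) = -![0, 1] := by ext i; fin_cases i <;> simp
        have hh : ∀ b, f ![0, 1] ![0, b] = 1 := fun b => by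
          rcases hcases b with rfl | rfl | rfl
          · rw [z, hr0]
          · exact halt _
          · rw [nz, hanti, hneg1, halt]; simp
        rcases hcases a with rfl | rfl | rfl
        · rw [z, hl0]
        · exact hh b
        · rw [nz, hneg1, hh, inv_one]
      · have z : (![0, 0] : Fin 2 → F) = 0 := by ext i; fin_cases i <;> simp
        have nz : (![-1, 0] : Fin 2 → F) = -![1, 0] := by ext i; fin_cases i <;> simp
        have nz' : (![0, -b] : Fin 2 → F) = -![0, b] := by ext i; fin_cases i <;> simp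
        rcases hcases a with rfl | rfl | rfl
        · show f _ _ = f _ _
          rw [zero_mul, z, hl0, hr0]
        · rw [one_mul]
        · show f _ _ = f _ _
          rw [neg_one_mul, nz, nz', hneg1, hanti (-![0, b]) ![1, 0], hneg1, ← hanti]
          rw [inv_inv]
    · have hU : ∀ c : F, (uU c : SL) ∈ RR := fun c => by rw [commutator_eq_top hq]; exact mem_top _
      have hL : ∀ c : F, (uL c : SL) ∈ RR := fun c => by rw [commutator_eq_top hq]; exact mem_top _
      have i1 : ∀ a b, f ![a, 0] ![b, 0] = 1 := by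
        intro a b
        have h1 := hinv _ (hU b) ![a, 0] ![0, 1]
        rw [act_uU, act_uU] at h1
        simp only [Matrix.cons_val_zero, Matrix.cons_val_one, mul_zero, add_zero, zero_add, mul_one] at h1
        rw [show (![b, 1] : Fin 2 → F) = ![b, 0] + ![0, 1] by ext i; fin_cases i <;> simp, hr] at h1
        exact mul_eq_right.1 h1
      have i2 : ∀ a b, f ![0, a] ![0, b] = 1 := by
        intro a b
        have h1 := hinv _ (hL b) ![0, a] ![1, 0]
        rw [act_uL, act_uL] at h1
        simp only [Matrix.cons_val_zero, Matrix.cons_val_one, mul_zero, add_zero, zero_add, mul_one] at h1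
        rw [show (![1, b] : Fin 2 → F) = ![1, 0] + ![0, b] by ext i; fin_cases i <;> simp, hr] at h1
        exact mul_eq_left.1 h1
      refine ⟨i1, i2, fun a b => ?_⟩
      have h1 := hinv _ (hU a) ![0, 1] ![0, b]
      rw [act_uU, act_uU] at h1
      simp only [Matrix.cons_val_zero, Matrix.cons_val_one, mul_zero, add_zero, zero_add, mul_one] at h1
      rw [show (![a, 1] : Fin 2 → F) = ![a, 0] + ![0, 1] by ext i; fin_cases i <;> simp,
        show (![a * b, b] : Fin 2 → F) = ![a * b, 0] + ![0, b] by ext i; fin_cases i <;> simp,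
        hl, hr, hr, i1, i2, one_mul, mul_one, hanti ![a * b, 0] ![0, 1], mul_inv_eq_one] at h1
      show g a b = g 1 (a * b)
      have h2 : g a b = g (a * b) 1 := h1
      have h3 : ∀ c, g c 1 = g 1 c := by
        intro c
        have h4 := hinv _ (hU 1) ![0, 1] ![0, c]
        rw [act_uU, act_uU] at h4
        simp only [Matrix.cons_val_zero, Matrix.cons_val_one, mul_zero, add_zero, zero_add, mul_one, one_mul] at h4
        rw [show (![1, 1] : Fin 2 → F) = ![1, 0] + ![0, 1] by ext i; fin_cases i <;> simp,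
          show (![c, c] : Fin 2 → F) = ![c, 0] + ![0, c] by ext i; fin_cases i <;> simp,
          hl, hr, hr, i1, i2, one_mul, mul_one, hanti ![c, 0] ![0, 1], mul_inv_eq_one] at h4
        exact h4.symm
      rw [h2, h3]
  obtain ⟨i1, i2, i3⟩ := key
  conv_lhs => rw [show u = ![u 0, 0] + ![0, u 1] by ext i; fin_cases i <;> simp,
    show v = ![v 0, 0] + ![0, v 1] by ext i; fin_cases i <;> simp]
  rw [hl, hr, hr, i1, i2, one_mul, mul_one, hanti ![v 0, 0] ![0, u 1]]
  show g (u 0) (v 1) * (g (v 0) (u 1))⁻¹ = g 1 (u 0 * v 1 - u 1 * v 0)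
  rw [i3, i3 (v 0), mul_inv_eq_iff_eq_mul, ← hg2]
  congr 1
  ring

omit [Fintype F] in
/-- An additive map preserving the determinant lies in `SL₂`. -/
theorem det_linear [Finite F] (χ : (Fin 2 → F) →+ (Fin 2 → F))
    (h : ∀ u v, χ u 0 * χ v 1 - χ u 1 * χ v 0 = u 0 * v 1 - u 1 * v 0) :
    ∃ M : SL, ∀ v, χ v = act M v := by
  have hinj : Function.Injective χ := by
    refine (injective_iff_map_eq_zero χ).2 fun u hu => ?_
    have h1 := h u ![1, 0]; have h2 := h u ![0, 1]
    simp [hu] at h1 h2
    ext i; fin_cases i <;> simp [h1, h2]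
  have hsurj := Finite.injective_iff_surjective.1 hinj
  have hlin : ∀ (s : F) u, χ (s • u) = s • χ u := by
    intro s u
    have key : ∀ w : Fin 2 → F, χ (s • u) 0 * w 1 - χ (s • u) 1 * w 0 = s * (χ u 0 * w 1 - χ u 1 * w 0) := by
      intro w
      obtain ⟨v, rfl⟩ := hsurj w
      rw [h, h]; simp; ring
    have h1 := key ![0, 1]; have h2 := key ![1, 0]
    simp at h1 h2
    ext i; fin_cases i <;> simp [h1, h2]
  refine ⟨⟨!![χ ![1, 0] 0, χ ![0, 1] 0; χ ![1, 0] 1, χ ![0, 1] 1], ?_⟩, fun v => ?_⟩
  · have h1 := h ![1, 0] ![0, 1]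
    simp at h1
    rw [Matrix.det_fin_two]
    simp
    linear_combination h1
  · conv_lhs => rw [show v = v 0 • ![1, 0] + v 1 • ![0, 1] by ext i; fin_cases i <;> simp, map_add, hlin, hlin]
    ext i; fin_cases i <;> simp [act, Matrix.mulVec, dotProduct, Fin.sum_univ_two] <;> ring

theorem eq_one_of_pow (hn : Fintype.card F = 3 ^ n) {k : F} {j : ℕ} (h : k ^ 3 ^ j = 1) : k = 1 := by
  haveI := charP_three hn
  haveI : Fact (Nat.Prime 3) := ⟨Nat.prime_three⟩
  have h1 : (k - 1) ^ 3 ^ j = 0 := by rw [sub_pow_char_pow, h, one_pow, sub_self]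
  exact sub_eq_zero.1 (eq_zero_of_pow_eq_zero h1)

/-- An additive map of `3`-power order centralising the upper triangular group and normalising `SL₂`
is upper triangular. -/
theorem eq_uU (hn : Fintype.card F = 3 ^ n) (χ : (Fin 2 → F) →+ (Fin 2 → F))
    (hU : ∀ (a : F) v, χ (act (uU a) v) = act (uU a) (χ v))
    {j : ℕ} (hp : ∀ v, χ^[3 ^ j] v = v) {M : SL} (hw : ∀ v, χ (act wW v) = act M (χ v)) :
    ∃ c : F, ∀ v, χ v = act (uU c) v := by
  have hx1 : ∀ x, χ ![x, 0] 1 = 0 := by
    intro x
    have h1 := congrFun (hU 1 ![x, 0]) 0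
    rw [act_uU, act_uU] at h1
    simpa using h1
  have hy1 : ∀ a y, χ ![a * y, 0] 0 = a * χ ![0, y] 1 := by
    intro a y
    have h1 := congrFun (hU a ![0, y]) 0
    rw [act_uU, act_uU, show (![(![0, y] : Fin 2 → F) 0 + a * (![0, y] : Fin 2 → F) 1, (![0, y] : Fin 2 → F) 1]
      : Fin 2 → F) = ![a * y, 0] + ![0, y] by ext i; fin_cases i <;> simp, map_add] at h1
    simp only [Pi.add_apply, Matrix.cons_val_zero] at h1
    linear_combination h1
  set k := χ ![0, 1] 1 with hk
  have hα : ∀ x, χ ![x, 0] 0 = x * k := fun x => by simpa using hy1 x 1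
  have hβ : ∀ y, χ ![0, y] 1 = y * k := fun y => by
    have h1 := hy1 1 y
    rw [one_mul, one_mul, hα] at h1
    exact h1.symm
  have hk1 : k = 1 := by
    have hit : ∀ m : ℕ, χ^[m] ![1, 0] = ![k ^ m, 0] := by
      intro m
      induction m with
      | zero => simp
      | succ m ih =>
        rw [Function.iterate_succ_apply', ih]
        ext i; fin_cases i
        · simp [hα, pow_succ]
        · simp [hx1]
    have h1 := congrFun (hp ![1, 0]) 0
    rw [hit] at h1
    exact eq_one_of_pow hn (by simpa using h1)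
  have hx : ∀ x, χ ![x, 0] = ![x, 0] := fun x => by
    ext i; fin_cases i
    · simp [hα, hk1]
    · simp [hx1]
  have hγ : ∀ y, χ ![0, y] 0 = y * (M : Matrix (Fin 2) (Fin 2) F) 0 0 := by
    intro y
    have h1 := congrFun (hw ![y, 0]) 0
    rw [hx, act_wW] at h1
    simp [act, Matrix.mulVec, dotProduct, Fin.sum_univ_two] at h1
    rw [h1, mul_comm]
  refine ⟨(M : Matrix (Fin 2) (Fin 2) F) 0 0, fun v => ?_⟩
  conv_lhs => rw [show v = ![v 0, 0] + ![0, v 1] by ext i; fin_cases i <;> simp, map_add, hx]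
  rw [act_uU]
  ext i; fin_cases i
  · simp [hγ, mul_comm]
  · simp [hβ, hk1]

/-- A `3`-element of `SL₂` acts quadratically. -/
theorem quad (hn : Fintype.card F = 3 ^ n) {M : SL} {j : ℕ} (h : M ^ 3 ^ j = 1) (v : Fin 2 → F) :
    act M (act M v - v) = act M v - v := by
  haveI := charP_three hn
  haveI : Fact (Nat.Prime 3) := ⟨Nat.prime_three⟩
  set A := (M : Matrix (Fin 2) (Fin 2) F) with hA
  set N := A - 1 with hN
  have hNn : N ^ 3 ^ j = 0 := by
    rw [hN, sub_pow_char_pow_of_commute 3 j (Commute.one_right A), one_pow, hA,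
      ← Matrix.SpecialLinearGroup.coe_pow, h]
    simp
  have hnil : IsNilpotent N := ⟨_, hNn⟩
  have hN2 : N ^ 2 = 0 := by
    have hc : N.charpoly = Polynomial.X ^ 2 := by
      have := Matrix.isNilpotent_charpoly_sub_pow_of_isNilpotent hnil
      rw [Fintype.card_fin] at this
      exact sub_eq_zero.1 this.eq_zero
    have := Matrix.aeval_self_charpoly N
    rwa [hc, map_pow, Polynomial.aeval_X] at this
  have h1 : (N ^ 2) *ᵥ v = 0 := by rw [hN2, Matrix.zero_mulVec]
  rw [pow_two, ← Matrix.mulVec_mulVec, hN] at h1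
  simp only [Matrix.sub_mulVec, Matrix.one_mulVec, Matrix.mulVec_sub] at h1
  rw [sub_eq_zero] at h1
  rw [show act M (act M v - v) = A *ᵥ (A *ᵥ v) - A *ᵥ v from Matrix.mulVec_sub A (A *ᵥ v) v]
  exact h1

/-- The upper unitriangular matrices. -/
def upper : Multiplicative F →* SL where
  toFun a := uU (Multiplicative.toAdd a)
  map_one' := by ext i j; fin_cases i <;> fin_cases j <;> simp [uU]
  map_mul' a b := by
    ext i j
    rw [Matrix.SpecialLinearGroup.coe_mul]
    fin_cases i <;> fin_cases j <;> simp [uU, Matrix.mul_apply, Fin.sum_univ_two, add_comm]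

theorem isPGroup_upper (hn : Fintype.card F = 3 ^ n) : IsPGroup 3 ↥(upper : Multiplicative F →* SL).range :=
  (IsPGroup.of_card (n := n) (by rw [Nat.card_congr Multiplicative.toAdd, Nat.card_eq_fintype_card, hn])
    : IsPGroup 3 (Multiplicative F)).of_surjective _ (MonoidHom.rangeRestrict_surjective _)

end CfsgLib.LocalEven.BlockCentral.Lin
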