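import Mathlib
import Cfsg.Agent.Lib.LocalEven.BlockCentral.Lin
import Cfsg.Agent.Lib.LocalEven.SubBlock.Main

/-!
The centraliser of `W_E` for a block `E`: preliminary facts.
-/

set_option autoImplicit false

namespace CfsgLib.LocalEven.BlockCentral

open Subgroup Cfsg Matrix
open CfsgLib.LocalEven.SubBlock
open scoped Pointwise commutatorElement

variable {G : Type*} [Group G] {p : ℕ}

/-- `C(W_E)`. -/
abbrev cW (p : ℕ) (E : Subgroup G) : Subgroup G := centralizer (bWE p E : Set G)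

/-- `O_p(C(W_E))`. -/
abbrev cV (p : ℕ) (E : Subgroup G) : Subgroup G := pCoreOf p (cW p E)

/-- `Ω₁(Z(O_p(C(W_E))))`. -/
abbrev cA (p : ℕ) (E : Subgroup G) : Subgroup G := omegaOneCenter p (cV p E)

/-- An element inverted by an involution is a square of an inverted element. -/
theorem inverted_split [Finite G] {x t : G} (ho : Odd (orderOf x)) (ht : t * t = 1) (hx : t * x * t = x⁻¹) :
    ∃ y ∈ zpowers x, y * y = x ∧ t * y * t = y⁻¹ := by
  obtain ⟨k, hk⟩ := ho
  refine ⟨x ^ (k + 1), pow_mem (mem_zpowers x) _, ?_, ?_⟩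
  · rw [← pow_add, show k + 1 + (k + 1) = orderOf x + 1 by omega, pow_succ, pow_orderOf_eq_one, one_mul]
  · have h1 : t⁻¹ = t := inv_eq_of_mul_eq_one_right ht
    have h2 : (t * x * t⁻¹) ^ (k + 1) = t * x ^ (k + 1) * t⁻¹ := conj_pow
    rw [h1, hx, inv_pow] at h2
    exact h2.symm

/-- An element commuting with an involution modulo an odd subgroup is corrected to commute with it. -/
theorem exists_fix [Finite G] {c t : G} {K : Subgroup G} (hK : ∀ x ∈ K, Odd (orderOf x)) (ht : t * t = 1)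
    (hc : c * t * c⁻¹ * t ∈ K) : ∃ y ∈ K, ∃ c', c = y * c' ∧ t * c' = c' * t ∧ y * y = c * t * c⁻¹ * t ∧
      t * y * t = y⁻¹ := by
  have h1 : t⁻¹ = t := inv_eq_of_mul_eq_one_right ht
  have hx : t * (c * t * c⁻¹ * t) * t = (c * t * c⁻¹ * t)⁻¹ := by
    rw [show t * (c * t * c⁻¹ * t) * t = t * c * t * c⁻¹ * (t * t) by group, ht, mul_one]
    simp [_root_.mul_inv_rev, h1, mul_assoc]
  obtain ⟨y, hy, hyx, hyt⟩ := inverted_split (hK _ hc) ht hx
  refine ⟨y, (zpowers_le.2 hc) hy, y⁻¹ * c, (mul_inv_cancel_left y c).symm, ?_, hyx, hyt⟩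
  have h2 : t * c * t = (c * t * c⁻¹ * t)⁻¹ * c := by
    simp [_root_.mul_inv_rev, h1, mul_assoc]
  have h3 : t * y⁻¹ * t = y := by
    have := congrArg Inv.inv hyt
    simpa [_root_.mul_inv_rev, h1, mul_assoc] using this
  calc t * (y⁻¹ * c) = (t * y⁻¹ * t) * (t * c * t) * t := by
        simp only [mul_assoc]; rw [ht, mul_one, ← mul_assoc t t c, ht, one_mul]
    _ = (y⁻¹ * c) * t := by rw [h3, h2, ← hyx]; group

theorem conj_involution {t : G} (ht : t * t = 1) (g : G) : (g * t * g⁻¹) * (g * t * g⁻¹) = 1 := by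
  rw [show g * t * g⁻¹ * (g * t * g⁻¹) = g * (t * t) * g⁻¹ by group, ht, mul_one, mul_inv_cancel]

variable [Finite G] [Fact p.Prime] {T : Sylow p G} {E : Subgroup G}

attribute [local instance] SubBlock.normal_pCore'

theorem normalizer_le_cW : normalizer (E : Set G) ≤ normalizer (cW p E : Set G) := fun _ hg =>
  CfsgLib.LocalEven.Oz.mem_normalizer_centralizer (normalizer_le_bWE E hg)

theorem cW_le_normalizer_cV : normalizer (cW p E : Set G) ≤ normalizer (cV p E : Set G) :=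
  Block.normalizer_le_pCoreOf _

theorem normalizer_le_cV : normalizer (E : Set G) ≤ normalizer (cV p E : Set G) :=
  normalizer_le_cW.trans cW_le_normalizer_cV

theorem isPGroup_cV : IsPGroup p ↥(cV p E) := CfsgLib.LocalEven.isPGroup_pCoreOf p _

theorem cV_le_cW : cV p E ≤ cW p E := CfsgLib.LocalEven.pCoreOf_le p _

/-- A `p`-group normalised by `N(E)` normalises `E`. -/
theorem pGroup_le_normalizer (hE : IsBaumannBlock p (T : Subgroup G) E) {X : Subgroup G}
    (hX : IsPGroup p ↥X) (hn : normalizer (E : Set G) ≤ normalizer (X : Set G)) :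
    X ≤ normalizer (E : Set G) :=
  Baumann.le_normalizer_block hE.1 hE.2.1 hX ((Block.baumann_le_normalizer hE).trans hn) (le_normalizer.trans hn)

/-- An element commuting with `E` modulo such a `p`-group normalises `E`. -/
theorem mem_normalizer_of_pGroup (hE : IsBaumannBlock p (T : Subgroup G) E) {X : Subgroup G}
    (hX : IsPGroup p ↥X) (hn : normalizer (E : Set G) ≤ normalizer (X : Set G)) {c : G}
    (hc : ∀ e ∈ E, ⁅e, c⁆ ∈ X) : c ∈ normalizer (E : Set G) := by
  refine CfsgLib.LocalEven.mem_normalizer_of_conj_le ?_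
  rw [map_le_iff_le_comap]
  conv_lhs => rw [← hE.1]
  refine Baumann.pResidualOf_le_iff.2 fun e he hco => ?_
  show c * e * c⁻¹ ∈ E
  have h1 : c * e * c⁻¹ ∈ E ⊔ X := by
    rw [conj_eq_comm_mul, ← commutatorElement_inv]
    exact mul_mem (mem_sup_right (inv_mem (hc e he))) (mem_sup_left he)
  exact (Block.pResidualOf_sup_eq hX (pGroup_le_normalizer hE hX hn) hE.1).le
    (Baumann.pResidualOf_le_iff.1 le_rfl _ h1 (by rwa [← MulAut.conj_apply, MulEquiv.orderOf_eq]))

theorem cV_le_normalizer (hE : IsBaumannBlock p (T : Subgroup G) E) : cV p E ≤ normalizer (E : Set G) :=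
  pGroup_le_normalizer hE isPGroup_cV normalizer_le_cV

theorem pCore_le_cW (hG : centralizer (pCore p G : Set G) ≤ pCore p G)
    (hE : IsBaumannBlock p (T : Subgroup G) E) : pCore p G ≤ cW p E := fun _ hv =>
  mem_centralizer_iff.2 fun w hw => (bA_central (bWE_le_bA hG hE hw) hv).symm

theorem pCore_le_cV (hG : centralizer (pCore p G : Set G) ≤ pCore p G)
    (hE : IsBaumannBlock p (T : Subgroup G) E) : pCore p G ≤ cV p E :=
  CfsgLib.LocalEven.le_pCoreOf (pCore_le_cW hG hE) (CfsgLib.Cores.isPGroup_pCore p)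
    (by rw [normalizer_eq_top]; exact le_top)

theorem bWE_le_cV (hG : centralizer (pCore p G : Set G) ≤ pCore p G)
    (hE : IsBaumannBlock p (T : Subgroup G) E) : bWE p E ≤ cV p E :=
  ((bWE_le_bA hG hE).trans bA_le).trans (pCore_le_cV hG hE)

theorem centralizer_cV_le (hG : centralizer (pCore p G : Set G) ≤ pCore p G)
    (hE : IsBaumannBlock p (T : Subgroup G) E) : centralizer (cV p E : Set G) ≤ cV p E :=
  ((centralizer_le (pCore_le_cV hG hE)).trans hG).trans (pCore_le_cV hG hE)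

/-- A group stabilising a series of `O_p(C(W_E))` is a `p`-group. -/
theorem isPGroup_of_stab (hG : centralizer (pCore p G : Set G) ≤ pCore p G)
    (hE : IsBaumannBlock p (T : Subgroup G) E) {X K₁ K₂ : Subgroup G} (h1 : K₁ ≤ cV p E) (h2 : K₂ ≤ K₁)
    (hn : K₁ ≤ normalizer (K₂ : Set G))
    (hX : X ≤ stab (cV p E) K₁ ⊓ (stab K₁ K₂ ⊓ stab K₂ ⊥)) : IsPGroup p ↥X := by
  refine isPGroup_of_coprime_eq_one fun x hx hco => ?_
  obtain ⟨s1, s2, s3⟩ := hX hx
  refine eq_one_of_pElem_coprime (isPGroup_cV (p := p) (E := E)) (centralizer_cV_le hG hE ?_) hco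
  refine mem_centralizer_iff.2 fun v hv => commutatorElement_eq_one_iff_mul_comm.1 (mem_bot.1 ?_)
  have hp1 : IsPGroup p ↥K₁ := isPGroup_cV.to_le h1
  have hv1 : ⁅v, x⁆ ∈ K₂ := comm_mem_of_coprime hp1 hco (s1.2.2 v hv) s2.2.1 hn s2.2.2
  exact comm_mem_of_coprime (hp1.to_le h2) hco hv1 (by rw [normalizer_eq_top]; exact mem_top x)
    (by rw [normalizer_eq_top]; exact le_top) s3.2.2

theorem cW_inf_le (hE : IsBaumannBlock p (T : Subgroup G) E) {e : G} (he : e ∈ E) (hc : e ∈ cW p E) :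
    e ∈ pCoreOf p E := by
  refine (BlockModule.isBlockModule_of_block hE).2 e he fun w hw => ?_
  have h : bW p E ≤ centralizer ({e} : Set G) := by
    rw [← bWE_sup hE]
    exact sup_le
      (fun x hx => mem_centralizer_iff.2 fun y hy => by
        rw [Set.mem_singleton_iff.1 hy]; exact (mem_centralizer_iff.1 hc x hx).symm)
      (fun x hx => mem_centralizer_iff.2 fun y hy => by
        rw [Set.mem_singleton_iff.1 hy]; exact mem_centralizer_iff.1 hx.2 e he)
  exact mem_centralizer_iff.1 (h hw) e rfl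

/-- `[E, c] ≤ Q` for `c` in `C(W_E)` normalising `E`. -/
theorem commutator_mem_core (hE : IsBaumannBlock p (T : Subgroup G) E) {c e : G} (hc : c ∈ cW p E)
    (hn : c ∈ normalizer (E : Set G)) (he : e ∈ E) : ⁅e, c⁆ ∈ pCoreOf p E := by
  refine cW_inf_le hE ?_ ?_
  · rw [commutatorElement_def, mul_assoc e c e⁻¹, mul_assoc e]
    exact mul_mem he ((mem_normalizer_iff.1 hn _).1 (inv_mem he))
  · rw [commutatorElement_def]
    exact mul_mem ((mem_normalizer_iff.1 (normalizer_le_cW (le_normalizer he)) c).1 hc) (inv_mem hc)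

theorem commutator_cV_le (hE : IsBaumannBlock p (T : Subgroup G) E) : ⁅cV p E, E⁆ ≤ pCoreOf p E := by
  rw [commutator_le]
  intro v hv e he
  rw [← commutatorElement_inv]
  exact inv_mem (commutator_mem_core hE (cV_le_cW hv) (cV_le_normalizer hE hv) he)

theorem mem_normalizer_of_easy (hG : centralizer (pCore p G : Set G) ≤ pCore p G)
    (hE : IsBaumannBlock p (T : Subgroup G) E) (h : ⁅cV p E, E⁆ ≤ bW p E) {c : G} (hc : c ∈ cW p E) :
    c ∈ normalizer (E : Set G) := by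
  have hn : bW p E ≤ normalizer (bWE p E : Set G) := (bW_le E).trans (le_normalizer_bWE E)
  have h1 : ⁅cV p E, E⁆ ≤ bWE p E := commutator_le_of_coprime (isPGroup_bW E) hE.1 h le_rfl
    (le_normalizer_bWE E) hn
  have hEV : E ≤ normalizer (cV p E : Set G) := le_normalizer.trans normalizer_le_cV
  have hWV := bWE_le_cV hG hE
  set X := cW p E ⊓ stab (cV p E) (bWE p E) with hX
  have hXp : IsPGroup p ↥X := by
    refine isPGroup_of_stab hG hE hWV le_rfl le_normalizer fun x hx => ?_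
    have hxn : x ∈ normalizer (bWE p E : Set G) := centralizer_le_normalizer _ hx.1
    refine ⟨hx.2, mem_stab_of_le le_rfl hxn fun a ha => ?_, mem_stab_of_le bot_le hxn fun a ha => ?_⟩
    · rw [commutatorElement_eq_one_iff_mul_comm.2 (mem_centralizer_iff.1 hx.1 a ha)]; exact one_mem _
    · rw [commutatorElement_eq_one_iff_mul_comm.2 (mem_centralizer_iff.1 hx.1 a ha)]; exact one_mem _
  refine mem_normalizer_of_pGroup hE hXp (fun g hg => ?_) fun e he => ⟨?_, ?_⟩
  · exact Baumann.normalizer_inf_le _ _ ⟨normalizer_le_cW hg, relCent_normalized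
      (le_normalizer (normalizer_le_cV hg)) (normalizer_le_cV hg) (normalizer_le_bWE E hg)⟩
  · rw [commutatorElement_def]
    exact mul_mem ((mem_normalizer_iff.1 (normalizer_le_cW (le_normalizer he)) c).1 hc) ((cW p E).inv_mem hc)
  · exact (commutator_mem_stab (mem_stab_of_le hWV (hEV he) fun v hv => h1 (commutator_mem_commutator hv he))
      (cW_le_normalizer_cV (le_normalizer hc)) (centralizer_le_normalizer _ hc)).1

/-- The difficult case. -/
structure Hard (p : ℕ) (T E : Subgroup G) : Prop where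
  char : centralizer (pCore p G : Set G) ≤ pCore p G
  exc : Exc p T E
  notW : ¬ ⁅cV p E, E⁆ ≤ bW p E

theorem Hard.sup_eq (h : Hard p (T : Subgroup G) E) (hE : IsBaumannBlock p (T : Subgroup G) E) :
    ⁅cV p E, E⁆ ⊔ bW p E = pCoreOf p E := by
  rcases h.exc.irr (⁅cV p E, E⁆ ⊔ bW p E) le_sup_right (sup_le (commutator_cV_le hE) (bW_le_core E))
    (fun e he => CfsgLib.LocalEven.mem_normalizer_of_conj_le (le_of_eq_of_le (Subgroup.map_sup _ _ _)
      (sup_le_sup (mem_normalizer_iff_map_conj_eq.1 (CfsgLib.Solvable.le_normalizer_commutator_right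
        (le_normalizer.trans normalizer_le_cV) he)).le
        (mem_normalizer_iff_map_conj_eq.1 (le_normalizer_bW E he)).le))) with h1 | h1
  · exact absurd (le_sup_left.trans h1.le) h.notW
  · exact h1

theorem Hard.core_le_cV (h : Hard p (T : Subgroup G) E) (hE : IsBaumannBlock p (T : Subgroup G) E) :
    pCoreOf p E ≤ cV p E := by
  have hEV : E ≤ normalizer (cV p E : Set G) := le_normalizer.trans normalizer_le_cV
  have h0 : ⁅cV p E, E⁆ ≤ cV p E := CfsgLib.Solvable.commutator_le_of_le_normalizer hEV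
  have hZ : bZ p E ≤ cV p E := by
    rw [← h.exc.derived]
    have hgen : ∀ a ∈ pCoreOf p E, ∃ d ∈ ⁅cV p E, E⁆, ∃ w ∈ bW p E, a = d * w := by
      intro a ha
      rw [← h.sup_eq hE] at ha
      have hn : bW p E ≤ normalizer ((⁅cV p E, E⁆ : Subgroup G) : Set G) :=
        (bW_le E).trans (CfsgLib.Solvable.le_normalizer_commutator_right hEV)
      rw [← SetLike.mem_coe, coe_mul_of_right_le_normalizer_left _ _ hn] at ha
      obtain ⟨d, hd, w, hw, rfl⟩ := ha
      exact ⟨d, hd, w, hw, rfl⟩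
    rw [commutator_le]
    intro a ha b hb
    obtain ⟨d, hd, w, hw, rfl⟩ := hgen a ha
    obtain ⟨d', hd', w', hw', rfl⟩ := hgen b hb
    have c1 : ∀ x ∈ ⁅cV p E, E⁆, ∀ y ∈ bW p E, x * y = y * x := fun x hx y hy =>
      core_comm (commutator_cV_le hE hx) hy
    have e1 : w * d' = d' * w := (c1 d' hd' w hw).symm
    have e2 : w' * d = d * w' := (c1 d hd w' hw').symm
    have e3 : w * w' = w' * w := bW_comm hw hw'
    have : ⁅d * w, d' * w'⁆ = ⁅d, d'⁆ := by
      have f1 : (d * w) * (d' * w') = (d * d') * (w * w') := by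
        rw [mul_assoc, ← mul_assoc w, e1, mul_assoc, mul_assoc]
      have f2 : (d' * w') * (d * w) = (d' * d) * (w * w') := by
        rw [mul_assoc, ← mul_assoc w', e2, mul_assoc, e3, mul_assoc]
      rw [commutatorElement_def, commutatorElement_def, show d * w * (d' * w') * (d * w)⁻¹ * (d' * w')⁻¹ =
        (d * w * (d' * w')) * ((d' * w') * (d * w))⁻¹ by group, f1, f2]
      group
    rw [this, commutatorElement_def]
    exact mul_mem (mul_mem (mul_mem (h0 hd) (h0 hd')) (inv_mem (h0 hd))) (inv_mem (h0 hd'))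
  have hW : bW p E ≤ cV p E := by
    rw [← bWE_sup hE]; exact sup_le (bWE_le_cV h.char hE) hZ
  rw [← h.sup_eq hE]
  exact sup_le h0 hW

theorem Hard.bW_le_cV (h : Hard p (T : Subgroup G) E) (hE : IsBaumannBlock p (T : Subgroup G) E) :
    bW p E ≤ cV p E := (bW_le_core E).trans (h.core_le_cV hE)

theorem Hard.core_cV (h : Hard p (T : Subgroup G) E) (hE : IsBaumannBlock p (T : Subgroup G) E)
    {q v : G} (hq : q ∈ pCoreOf p E) (hv : v ∈ cV p E) : ⁅q, v⁆ ∈ bW p E := by
  refine (?_ : ⁅pCoreOf p E, cV p E⁆ ≤ bW p E) (commutator_mem_commutator hq hv)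
  have hVn := cV_le_normalizer hE
  refine commutator_le_of_irreducible (E := E)
    (fun a ha b hb => inf_le_left (b := centralizer (E : Set G)) (h.exc.derived.le (commutator_mem_commutator ha hb)))
    (bW_le_core E) (CfsgLib.LocalEven.isPGroup_pCoreOf p E) h.exc.irr isPGroup_cV
    (hVn.trans (Block.normalizer_le_pCoreOf E)) (hVn.trans (normalizer_le_bW E))
    (CfsgLib.LocalEven.le_normalizer_pCoreOf p E) (le_normalizer_bW E) fun e he x hx w hw => ?_
  exact inf_le_left (b := centralizer (E : Set G)) (h.exc.derived.le (commutator_mem_commutator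
    (commutator_mem_core hE (cV_le_cW hx) (hVn hx) he) hw))

theorem Hard.cV_core (h : Hard p (T : Subgroup G) E) (hE : IsBaumannBlock p (T : Subgroup G) E)
    {q v : G} (hq : q ∈ pCoreOf p E) (hv : v ∈ cV p E) : ⁅v, q⁆ ∈ bW p E := by
  rw [← commutatorElement_inv]; exact inv_mem (h.core_cV hE hq hv)

/-- An element of `C(W_E)` acting trivially on `Q/W` centralises `W`. -/
theorem Hard.centralizes_bW (h : Hard p (T : Subgroup G) E) (hE : IsBaumannBlock p (T : Subgroup G) E)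
    {c : G} (hc : c ∈ cW p E) (hQ : c ∈ stab (pCoreOf p E) (bW p E)) {w : G} (hw : w ∈ bW p E) :
    c * w = w * c := by
  have hcW : c ∈ normalizer (bW p E : Set G) := hQ.2.1
  have hconj : ∀ q ∈ pCoreOf p E, ∃ a ∈ bW p E, c * q * c⁻¹ = a * q := fun q hq =>
    ⟨⁅c, q⁆, commutatorElement_inv q c ▸ inv_mem (hQ.2.2 q hq), conj_eq_comm_mul c q⟩
  have hZ : bZ p E ≤ centralizer ({c} : Set G) := by
    rw [← h.exc.derived, commutator_le]
    intro a ha b hb
    refine mem_centralizer_iff.2 fun y hy => ?_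
    rw [Set.mem_singleton_iff.1 hy]
    obtain ⟨a1, ha1, e1⟩ := hconj a ha
    obtain ⟨b1, hb1, e2⟩ := hconj b hb
    have k1 : ⁅a, b1 * b⁆ = ⁅a, b⁆ := by
      rw [show ⁅a, b1 * b⁆ = ⁅a, b1⁆ * (b1 * ⁅a, b⁆ * b1⁻¹) by simp only [commutatorElement_def]; group,
        commutatorElement_eq_one_iff_mul_comm.2 (core_comm ha hb1), one_mul,
        bW_comm hb1 (inf_le_left (b := centralizer (E : Set G)) (h.exc.derived.le (commutator_mem_commutator ha hb))),
        mul_inv_cancel_right]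
    have k2 : ⁅a1 * a, b1 * b⁆ = ⁅a, b⁆ := by
      have hbb : b1 * b ∈ pCoreOf p E := mul_mem (bW_le_core E hb1) hb
      rw [show ⁅a1 * a, b1 * b⁆ = (a1 * ⁅a, b1 * b⁆ * a1⁻¹) * ⁅a1, b1 * b⁆ by
        simp only [commutatorElement_def]; group,
        commutatorElement_eq_one_iff_mul_comm.2 (core_comm hbb ha1).symm, mul_one, k1,
        bW_comm ha1 (inf_le_left (b := centralizer (E : Set G)) (h.exc.derived.le (commutator_mem_commutator ha hb))),
        mul_inv_cancel_right]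
    refine mul_inv_eq_iff_eq_mul.1 ?_
    rw [show c * ⁅a, b⁆ * c⁻¹ = ⁅c * a * c⁻¹, c * b * c⁻¹⁆ by simp only [commutatorElement_def]; group, e1, e2, k2]
  have hle : bW p E ≤ centralizer ({c} : Set G) := by
    rw [← bWE_sup hE]
    exact sup_le (fun x hx => mem_centralizer_iff.2 fun y hy => by
      rw [Set.mem_singleton_iff.1 hy]; exact (mem_centralizer_iff.1 hc x hx).symm) hZ
  exact mem_centralizer_iff.1 (hle hw) c rfl

theorem Hard.cV_mem_stab (h : Hard p (T : Subgroup G) E) (hE : IsBaumannBlock p (T : Subgroup G) E)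
    {v : G} (hv : v ∈ cV p E) : v ∈ stab (pCoreOf p E) (bW p E) :=
  mem_stab_of_le (bW_le_core E) (Block.normalizer_le_pCoreOf E (cV_le_normalizer hE hv))
    fun _ hq => h.core_cV hE hq hv

theorem Hard.bW_le_cA (h : Hard p (T : Subgroup G) E) (hE : IsBaumannBlock p (T : Subgroup G) E) :
    bW p E ≤ cA p E := fun _ hw =>
  CfsgLib.LocalEven.Oz.mem_iff.2 ⟨h.bW_le_cV hE hw, fun _ hv =>
    h.centralizes_bW hE (cV_le_cW hv) (h.cV_mem_stab hE hv) hw, (CfsgLib.LocalEven.Oz.mem_iff.1 hw).2.2⟩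

theorem cA_central {a v : G} (ha : a ∈ cA p E) (hv : v ∈ cV p E) : v * a = a * v :=
  (CfsgLib.LocalEven.Oz.mem_iff.1 ha).2.1 v hv

theorem cA_le_cV : cA p E ≤ cV p E := CfsgLib.LocalEven.Oz.le_self _

/-- A section of a block as an `SL₂`-module. -/
structure Rep (p : ℕ) (F : Type) [Field F] (E U U₀ : Subgroup G) where
  rho : G → Matrix.SpecialLinearGroup (Fin 2) F
  vec : G → (Fin 2 → F)
  rho_mul : ∀ a ∈ E, ∀ b ∈ E, rho (a * b) = rho a * rho b
  rho_mem : ∀ a, rho a ∈ commutator (Matrix.SpecialLinearGroup (Fin 2) F)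
  rho_surj : ∀ r ∈ commutator (Matrix.SpecialLinearGroup (Fin 2) F), ∃ e ∈ E, rho e = r
  rho_eq_one : ∀ e ∈ E, (rho e = 1 ↔ e ∈ pCoreOf p E)
  vec_mul : ∀ a ∈ U, ∀ b ∈ U, vec (a * b) = vec a + vec b
  vec_eq_zero : ∀ a ∈ U, (vec a = 0 ↔ a ∈ U₀)
  vec_surj : ∀ v, ∃ a ∈ U, vec a = v
  vec_conj : ∀ e ∈ E, ∀ a ∈ U, vec (e * a * e⁻¹) = Lin.act (rho e) (vec a)
  le_normalizer : E ≤ normalizer (U : Set G)

omit [Finite G] [Fact p.Prime] in
theorem Rep.vec_one {F : Type} [Field F] {U U₀ : Subgroup G} (R : Rep p F E U U₀) : R.vec 1 = 0 := by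
  have := R.vec_mul 1 (one_mem U) 1 (one_mem U)
  rw [one_mul] at this
  exact left_eq_add.1 this

omit [Finite G] [Fact p.Prime] in
theorem Rep.vec_inv {F : Type} [Field F] {U U₀ : Subgroup G} (R : Rep p F E U U₀) {a : G} (ha : a ∈ U) :
    R.vec a⁻¹ = -R.vec a := by
  have := R.vec_mul a⁻¹ (inv_mem ha) a ha
  rw [inv_mul_cancel, R.vec_one] at this
  exact eq_neg_of_add_eq_zero_left this.symm

omit [Finite G] [Fact p.Prime] in
theorem Rep.vec_eq_iff {F : Type} [Field F] {U U₀ : Subgroup G} (R : Rep p F E U U₀) {a b : G}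
    (ha : a ∈ U) (hb : b ∈ U) : R.vec a = R.vec b ↔ a * b⁻¹ ∈ U₀ := by
  rw [← R.vec_eq_zero _ (mul_mem ha (inv_mem hb)), R.vec_mul _ ha _ (inv_mem hb), R.vec_inv hb,
    add_neg_eq_zero]

omit [Finite G] [Fact p.Prime] in
theorem Rep.rho_one {F : Type} [Field F] {U U₀ : Subgroup G} (R : Rep p F E U U₀) : R.rho 1 = 1 := by
  have := R.rho_mul 1 (one_mem E) 1 (one_mem E)
  rw [one_mul] at this
  exact left_eq_mul.1 this

omit [Finite G] [Fact p.Prime] in
theorem Rep.rho_inv {F : Type} [Field F] {U U₀ : Subgroup G} (R : Rep p F E U U₀) {a : G} (ha : a ∈ E) :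
    R.rho a⁻¹ = (R.rho a)⁻¹ := by
  have := R.rho_mul a⁻¹ (inv_mem ha) a ha
  rw [inv_mul_cancel, R.rho_one] at this
  exact eq_inv_of_mul_eq_one_left this.symm

omit [Finite G] [Fact p.Prime] in
theorem Rep.rho_pow {F : Type} [Field F] {U U₀ : Subgroup G} (R : Rep p F E U U₀) {a : G} (ha : a ∈ E)
    (k : ℕ) : R.rho (a ^ k) = R.rho a ^ k := by
  induction k with
  | zero => simpa using R.rho_one
  | succ k ih => rw [pow_succ, pow_succ, R.rho_mul _ (pow_mem ha k) _ ha, ih]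

omit [Finite G] [Fact p.Prime] in
/-- An element normalising the section induces an additive map on it. -/
theorem Rep.exists_map {F : Type} [Field F] {U U₀ : Subgroup G} (R : Rep p F E U U₀) {g : G}
    (hU : g ∈ normalizer (U : Set G)) (hU0 : g ∈ normalizer (U₀ : Set G)) :
    ∃ χ : (Fin 2 → F) →+ (Fin 2 → F), ∀ a ∈ U, χ (R.vec a) = R.vec (g * a * g⁻¹) := by
  have hgU : ∀ a ∈ U, g * a * g⁻¹ ∈ U := fun a ha => (mem_normalizer_iff.1 hU a).1 ha
  choose s hs hsv using R.vec_surj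
  have key : ∀ a ∈ U, R.vec (g * s (R.vec a) * g⁻¹) = R.vec (g * a * g⁻¹) := fun a ha => by
    rw [R.vec_eq_iff (hgU _ (hs _)) (hgU a ha)]
    have := (mem_normalizer_iff.1 hU0 _).1 ((R.vec_eq_iff (hs _) ha).1 (hsv _))
    rwa [show g * (s (R.vec a) * a⁻¹) * g⁻¹ = g * s (R.vec a) * g⁻¹ * (g * a * g⁻¹)⁻¹ by group] at this
  refine ⟨AddMonoidHom.mk' (fun v => R.vec (g * s v * g⁻¹)) fun u v => ?_, key⟩
  rw [← R.vec_mul _ (hgU _ (hs u)) _ (hgU _ (hs v)),
    show g * s u * g⁻¹ * (g * s v * g⁻¹) = g * (s u * s v) * g⁻¹ by group,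
    ← key _ (mul_mem (hs u) (hs v)), R.vec_mul _ (hs u) _ (hs v), hsv, hsv]

omit [Fact p.Prime] in
theorem nonempty_rep {F : Type} [Field F] [Fintype F] {U U₀ : Subgroup G}
    (h : ActsAsSL2OnSection F (commutator (Matrix.SpecialLinearGroup (Fin 2) F)) E U U₀)
    (hfree : ∀ e ∈ E, (∀ u ∈ U, ⁅u, e⁆ ∈ U₀) → e ∈ pCoreOf p E)
    (hQ : ∀ e ∈ pCoreOf p E, ∀ u ∈ U, ⁅u, e⁆ ∈ U₀) : Nonempty (Rep p F E U U₀) := by
  classical
  obtain ⟨hEU, -, ρ, ψ, hρ, hψ, hker, heq⟩ := h
  let rho : G → Matrix.SpecialLinearGroup (Fin 2) F := fun e => if he : e ∈ E then ρ ⟨e, he⟩ else 1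
  let vec : G → (Fin 2 → F) := fun a => if ha : a ∈ U then Multiplicative.toAdd (ψ ⟨a, ha⟩) else 0
  have hvm : ∀ a ∈ U, ∀ b ∈ U, vec (a * b) = vec a + vec b := fun a ha b hb => by
    simp only [vec, dif_pos ha, dif_pos hb, dif_pos (mul_mem ha hb), ← toAdd_mul, ← map_mul]
    rfl
  have hv0 : ∀ a ∈ U, (vec a = 0 ↔ a ∈ U₀) := fun a ha => by
    simp only [vec, dif_pos ha, toAdd_eq_zero]
    exact hker ⟨a, ha⟩
  have hv1 : ∀ a ∈ U, vec a⁻¹ = -vec a := fun a ha => by
    simp only [vec, dif_pos ha, dif_pos (inv_mem ha), ← toAdd_inv, ← map_inv]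
    rfl
  have hvs : ∀ v, ∃ a ∈ U, vec a = v := fun v => by
    obtain ⟨a, ha⟩ := hψ (Multiplicative.ofAdd v)
    exact ⟨a, a.2, by simp only [vec, dif_pos a.2, Subtype.coe_eta, ha]; rfl⟩
  have hvc : ∀ e ∈ E, ∀ a ∈ U, vec (e * a * e⁻¹) = Lin.act (rho e) (vec a) := by
    intro e he a ha
    obtain ⟨w, hw, hw'⟩ := heq ⟨e, he⟩ ⟨a, ha⟩
    have hm : e * a * e⁻¹ ∈ U := hw ▸ w.2
    simp only [rho, vec, dif_pos he, dif_pos ha, dif_pos hm]
    rw [show (⟨e * a * e⁻¹, hm⟩ : ↥U) = w from Subtype.ext hw.symm]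
    exact hw'
  refine ⟨⟨rho, vec, fun a ha b hb => ?_, fun a => ?_, fun r hr => ?_, fun e he => ⟨fun h1 => ?_, fun h1 => ?_⟩,
    hvm, hv0, hvs, hvc, hEU⟩⟩
  · simp only [rho, dif_pos ha, dif_pos hb, dif_pos (mul_mem ha hb), ← map_mul]; rfl
  · by_cases ha : a ∈ E
    · simp only [rho, dif_pos ha]; rw [← hρ]; exact ⟨_, rfl⟩
    · simp only [rho, dif_neg ha]; exact one_mem _
  · obtain ⟨e, he⟩ := MonoidHom.mem_range.1 (hρ.ge hr)
    exact ⟨e, e.2, by simp only [rho, dif_pos e.2, Subtype.coe_eta, he]⟩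
  · refine hfree e he fun u hu => (hv0 _ ?_).1 ?_
    · rw [commutatorElement_def, mul_assoc u e u⁻¹, mul_assoc u]
      exact mul_mem hu (Baumann.conj_mem_of_le_normalizer hEU he (inv_mem hu))
    · rw [commutatorElement_def, mul_assoc u e u⁻¹, mul_assoc u,
        hvm _ hu _ (Baumann.conj_mem_of_le_normalizer hEU he (inv_mem hu)), hvc e he _ (inv_mem hu), h1,
        hv1 u hu]
      simp [Lin.act]
  · refine Lin.act_ext fun v => ?_
    obtain ⟨a, ha, rfl⟩ := hvs v
    have hm := Baumann.conj_mem_of_le_normalizer hEU he ha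
    have h2 := (hv0 _ (mul_mem hm (inv_mem ha))).2 (by
      rw [show e * a * e⁻¹ * a⁻¹ = ⁅a, e⁆⁻¹ by rw [commutatorElement_def]; group]
      exact inv_mem (hQ e h1 a ha))
    rw [hvm _ hm _ (inv_mem ha), hvc e he a ha, hv1 a ha, add_neg_eq_zero] at h2
    rw [h2]; simp [Lin.act]

theorem Hard.exists_reps (h : Hard p (T : Subgroup G) E) (hE : IsBaumannBlock p (T : Subgroup G) E) :
    ∃ (F : Type) (_ : Field F) (_ : Fintype F) (n : ℕ), Fintype.card F = 3 ^ n ∧
      Nat.card ↥(bZ p E) = 3 ^ n ∧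
      Nonempty (Rep p F E (bW p E) (bZ p E)) ∧ Nonempty (Rep p F E (pCoreOf p E) (bW p E)) := by
  have hp := h.exc.three
  obtain ⟨-, -, -, -, hcases⟩ := id hE
  have hQW : ∀ e ∈ pCoreOf p E, ∀ u ∈ bW p E, ⁅u, e⁆ ∈ bZ p E := fun e he u hu => by
    rw [commutatorElement_eq_one_iff_mul_comm.2 (core_comm he hu).symm]; exact one_mem _
  rcases hcases with ⟨F, _, _, n, hn, iso, hWsec, hQ | ⟨-, hQsec, -, -, h3, h5, -⟩⟩ | ⟨h2, -⟩
  · exact absurd ((commutator_cV_le hE).trans hQ.le) h.notW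
  · refine ⟨F, _, _, n, by rw [hn, hp], ?_, nonempty_rep hWsec
      (free_of_action hWsec iso hQW ((bW_le E).trans (le_normalizer_bZ E))) hQW,
      nonempty_rep hQsec h.exc.free fun e he u hu =>
        inf_le_left (b := centralizer (E : Set G)) (h.exc.derived.le (commutator_mem_commutator hu he))⟩
    rw [show bZ p E = E ⊓ centralizer (E : Set G) from h3.symm, h5]
  · omega

/-- The central involution of the block. -/
structure Inv (p : ℕ) (E : Subgroup G) (t : G) : Prop where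
  mem : t ∈ E
  sq : t * t = 1
  notQ : t ∉ pCoreOf p E
  central : ∀ e ∈ E, ⁅e, t⁆ ∈ pCoreOf p E
  invW : ∀ w ∈ bW p E, t * w * t * w ∈ bZ p E
  invQ : ∀ q ∈ pCoreOf p E, t * q * t * q ∈ bW p E
  uniq : ∀ g ∈ normalizer (E : Set G), g * t * g⁻¹ * t ∈ pCoreOf p E

theorem Hard.exists_inv (h : Hard p (T : Subgroup G) E) (hE : IsBaumannBlock p (T : Subgroup G) E) :
    ∃ t, Inv p E t := by
  obtain ⟨F, _, _, n, hn, -, ⟨R⟩, ⟨R'⟩⟩ := h.exists_reps hE
  have h2 := Lin.two_ne_zero' hn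
  have hne : (-1 : Matrix.SpecialLinearGroup (Fin 2) F) ≠ 1 := by
    intro h
    have h1 := congrArg (fun M : Matrix.SpecialLinearGroup (Fin 2) F => (M : Matrix (Fin 2) (Fin 2) F) 0 0) h
    simp at h1
    exact h2 (by linear_combination -h1)
  obtain ⟨x, hx, hxr⟩ := R.rho_surj _ (Lin.neg_one_mem hn)
  obtain ⟨k, m, hm, hkm⟩ := Nat.exists_eq_pow_mul_and_not_dvd (orderOf_pos x).ne' p (Fact.out : p.Prime).ne_one
  set t := x ^ p ^ k with ht
  have htE : t ∈ E := pow_mem hx _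
  have htr : R.rho t = -1 := by
    rw [ht, R.rho_pow hx, hxr, h.exc.three]
    exact (by decide : Odd 3).pow.neg_one_pow
  have hco : (orderOf t).Coprime p := by
    rw [ht, orderOf_pow' _ (pow_ne_zero k (Fact.out : p.Prime).ne_zero), hkm, Nat.gcd_mul_right_left,
      Nat.mul_div_cancel_left _ (pow_pos (Fact.out : p.Prime).pos k)]
    exact ((Fact.out : p.Prime).coprime_iff_not_dvd.2 hm).symm
  have hsq : t * t = 1 := by
    refine eq_one_of_pElem_coprime (CfsgLib.LocalEven.isPGroup_pCoreOf p E)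
      ((R.rho_eq_one _ (mul_mem htE htE)).1 (by rw [R.rho_mul _ htE _ htE, htr, neg_mul_neg, one_mul])) ?_
    rw [← pow_two]
    exact orderOf_pow_self hco 2
  have htn : t ∉ pCoreOf p E := fun h1 => hne (htr ▸ (R.rho_eq_one t htE).2 h1)
  have hinv : ∀ s ∈ E, s * s = 1 → s ∉ pCoreOf p E → R.rho s = -1 ∧ R'.rho s = -1 := fun s hs hs2 hsQ =>
    ⟨Lin.eq_neg_one h2 (by rw [← R.rho_mul _ hs _ hs, hs2, R.rho_one]) fun h1 => hsQ ((R.rho_eq_one s hs).1 h1),
    Lin.eq_neg_one h2 (by rw [← R'.rho_mul _ hs _ hs, hs2, R'.rho_one]) fun h1 => hsQ ((R'.rho_eq_one s hs).1 h1)⟩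
  have hti : t⁻¹ = t := inv_eq_of_mul_eq_one_right hsq
  have hact : ∀ v : Fin 2 → F, Lin.act (-1 : Matrix.SpecialLinearGroup (Fin 2) F) v = -v := fun v => by
    simp [Lin.act, Matrix.neg_mulVec]
  refine ⟨t, htE, hsq, htn, fun e he => ?_, fun w hw => ?_, fun q hq => ?_, fun g hg => ?_⟩
  · refine (R.rho_eq_one _ ?_).1 ?_
    · rw [commutatorElement_def]; exact mul_mem (mul_mem (mul_mem he htE) (inv_mem he)) (inv_mem htE)
    · rw [commutatorElement_def, R.rho_mul _ (mul_mem (mul_mem he htE) (inv_mem he)) _ (inv_mem htE),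
        R.rho_mul _ (mul_mem he htE) _ (inv_mem he), R.rho_mul _ he _ htE, R.rho_inv he, R.rho_inv htE, htr,
        mul_neg_one, neg_mul, mul_inv_cancel, inv_neg, inv_one, neg_mul_neg, one_mul]
  · have hm : t * w * t ∈ bW p E := by
      have := Baumann.conj_mem_of_le_normalizer (le_normalizer_bW E) htE hw
      rwa [hti] at this
    refine (R.vec_eq_zero _ (mul_mem hm hw)).1 ?_
    have := R.vec_conj t htE w hw
    rw [hti] at this
    rw [R.vec_mul _ hm _ hw, this, htr, hact, neg_add_cancel]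
  · have hm : t * q * t ∈ pCoreOf p E := by
      have := Baumann.conj_mem_of_le_normalizer R'.le_normalizer htE hq
      rwa [hti] at this
    refine (R'.vec_eq_zero _ (mul_mem hm hq)).1 ?_
    have := R'.vec_conj t htE q hq
    rw [hti] at this
    rw [R'.vec_mul _ hm _ hq, this, (hinv t htE hsq htn).2, hact, neg_add_cancel]
  · have hs : g * t * g⁻¹ ∈ E := (mem_normalizer_iff.1 hg t).1 htE
    refine (R.rho_eq_one _ (mul_mem hs htE)).1 ?_
    rw [R.rho_mul _ hs _ htE, (hinv _ hs (conj_involution hsq g) fun h1 =>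
      htn ((mem_normalizer_iff.1 (Block.normalizer_le_pCoreOf E hg) t).2 h1)).1, htr, neg_mul_neg, one_mul]

end CfsgLib.LocalEven.BlockCentral
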