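import Mathlib
import Cfsg.Agent.Lib.LocalEven.BlockCentral.Setup
import Cfsg.Agent.Lib.Fusion.RankTwo.Maximal

/-!
An element of `B(T)` acting quadratically on `W/Z` and on `Q/W`.
-/

set_option autoImplicit false

namespace CfsgLib.LocalEven.BlockCentral

open Subgroup Cfsg Matrix
open CfsgLib.LocalEven.SubBlock
open scoped Pointwise commutatorElement

variable {G : Type*} [Group G] [Finite G] {p : ℕ} [Fact p.Prime] {T : Sylow p G} {E : Subgroup G}
variable {F : Type} [Field F] [Fintype F] {n : ℕ}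

omit [Finite G] [Fact p.Prime] [Fintype F] in
/-- Conjugation by an element of `E` followed by `g`. -/
theorem Rep.vec_conj_mul {U U₀ : Subgroup G} (R : Rep p F E U U₀) {e g a : G} (he : e ∈ E)
    (hg : g ∈ normalizer (U : Set G)) (ha : a ∈ U) :
    R.vec ((e * g) * a * (e * g)⁻¹) = Lin.act (R.rho e) (R.vec (g * a * g⁻¹)) := by
  rw [show (e * g) * a * (e * g)⁻¹ = e * (g * a * g⁻¹) * e⁻¹ by group,
    R.vec_conj e he _ ((mem_normalizer_iff.1 hg a).1 ha)]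

omit [Finite G] [Fact p.Prime] [Fintype F] in
theorem Rep.vec_comm {U U₀ : Subgroup G} (R : Rep p F E U U₀) {b a : G} (hb : b ∈ normalizer (U : Set G))
    (ha : a ∈ U) : ⁅a, b⁆ ∈ U ∧ R.vec ⁅a, b⁆ = R.vec a - R.vec (b * a * b⁻¹) := by
  have h1 : b * a⁻¹ * b⁻¹ ∈ U := (mem_normalizer_iff.1 hb _).1 (inv_mem ha)
  rw [show ⁅a, b⁆ = a * (b * a⁻¹ * b⁻¹) by rw [commutatorElement_def]; group]
  refine ⟨mul_mem ha h1, ?_⟩
  rw [R.vec_mul _ ha _ h1, show b * a⁻¹ * b⁻¹ = (b * a * b⁻¹)⁻¹ by group,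
    R.vec_inv ((mem_normalizer_iff.1 hb _).1 ha), sub_eq_add_neg]

omit [Finite G] [Fact p.Prime] in
/-- An element acting as a `3`-element of `SL₂` acts quadratically. -/
theorem Rep.quad_mem {U U₀ : Subgroup G} (R : Rep p F E U U₀) (hn : Fintype.card F = 3 ^ n) {b : G}
    (hb : b ∈ normalizer (U : Set G)) {M : Matrix.SpecialLinearGroup (Fin 2) F} {j : ℕ} (hM : M ^ 3 ^ j = 1)
    (h : ∀ a ∈ U, R.vec (b * a * b⁻¹) = Lin.act M (R.vec a)) : ∀ a ∈ U, ⁅⁅a, b⁆, b⁆ ∈ U₀ := by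
  intro a ha
  obtain ⟨h1, e1⟩ := R.vec_comm hb ha
  obtain ⟨h2, e2⟩ := R.vec_comm hb h1
  refine (R.vec_eq_zero _ h2).1 ?_
  rw [e2, h _ h1, e1, h a ha, show R.vec a - Lin.act M (R.vec a) = -(Lin.act M (R.vec a) - R.vec a) by
      rw [neg_sub],
    show Lin.act M (-(Lin.act M (R.vec a) - R.vec a)) = -(Lin.act M (Lin.act M (R.vec a) - R.vec a)) from
      Matrix.mulVec_neg _ _, Lin.quad hn hM, sub_self]

/-- An element of `B(T)` which is, modulo the stabiliser of `W/Z`, a `p`-element of `E`. -/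
theorem Hard.exists_decomp (h : Hard p (T : Subgroup G) E) (hE : IsBaumannBlock p (T : Subgroup G) E)
    (hn : Fintype.card F = 3 ^ n) (h4 : 4 ≤ Fintype.card F) (R : Rep p F E (bW p E) (bZ p E)) :
    ∃ b ∈ baumannSubgroupOf p (T : Subgroup G), b ∉ centralizer (bW p E : Set G) ∧
      ∃ e ∈ E, R.rho e ^ 3 = 1 ∧ e⁻¹ * b ∈ stab (bW p E) (bZ p E) := by
  classical
  have hp := h.exc.three
  set B := baumannSubgroupOf p (T : Subgroup G) with hB
  set S := stab (bW p E) (bZ p E) with hS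
  have hBp : IsPGroup p ↥B := T.2.to_le (Baumann.baumann_le _)
  have hBE : B ≤ normalizer (E : Set G) := Block.baumann_le_normalizer hE
  by_cases hex : ∃ b ∈ B, b ∉ centralizer (bW p E : Set G) ∧ b ∈ S
  · obtain ⟨b, hb, hbC, hbS⟩ := hex
    exact ⟨b, hb, hbC, 1, one_mem E, by rw [R.rho_one, one_pow], by rwa [inv_one, one_mul]⟩
  obtain ⟨b0, hb0, hb0C⟩ := baumann_not_le_centralizer hE
  have hBS : ¬ B ≤ S := fun hle => hex ⟨b0, hb0, hb0C, hle hb0⟩
  set A := E ⊔ B with hA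
  have hEA : E ≤ A := le_sup_left
  have hAE : A ≤ normalizer (E : Set G) := sup_le le_normalizer hBE
  haveI : (E.subgroupOf A).Normal := normal_subgroupOf_of_le_normalizer hAE
  obtain ⟨P, hP⟩ := (hBp.comap_subtype (H := B) (K := A)).exists_le_sylow
  set P' := (P : Subgroup ↥A).map A.subtype with hP'
  have hBP : B ≤ P' := fun b hb => ⟨⟨b, mem_sup_right hb⟩, hP hb, rfl⟩
  have hP'A : P' ≤ A := map_subtype_le _
  have hP'p : IsPGroup p ↥P' := P.2.map _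
  set U := P' ⊓ E with hU
  have hUi : ¬ p ∣ U.relIndex E := by
    have h1 := CfsgLib.Fusion.RankTwo.not_dvd_relIndex_inf P (E.subgroupOf A)
    have h2 : U.relIndex E = (P : Subgroup ↥A).relIndex (E.subgroupOf A) := by
      rw [← inf_relIndex_right (P : Subgroup ↥A),
        ← relIndex_map_map_of_injective _ _ A.subtype_injective, map_inf_eq _ _ _ A.subtype_injective,
        map_subgroupOf_eq_of_le hEA]
    rwa [h2]
  -- the image of `U`
  let ρ : ↥E →* Matrix.SpecialLinearGroup (Fin 2) F :=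
    MonoidHom.mk' (fun e => R.rho e) fun a b => R.rho_mul _ a.2 _ b.2
  have hρs : Function.Surjective ρ := fun r => by
    obtain ⟨e, he, hr⟩ := R.rho_surj r (by rw [Lin.commutator_eq_top h4]; exact mem_top _)
    exact ⟨⟨e, he⟩, hr⟩
  set U' := (U.subgroupOf E).map ρ with hU'
  have hU'p : IsPGroup p ↥U' := ((hP'p.to_le inf_le_left).comap_subtype).map _
  have hU'i : ¬ p ∣ U'.index := fun hd => hUi (hd.trans (index_map_dvd _ hρs))
  haveI : Fact (Nat.Prime 3) := ⟨Nat.prime_three⟩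
  subst hp
  obtain ⟨Q, hQ⟩ := (Lin.isPGroup_upper (F := F) hn).exists_le_sylow
  obtain ⟨g, hg⟩ := MulAction.exists_smul_eq (Matrix.SpecialLinearGroup (Fin 2) F) (hU'p.toSylow hU'i) Q
  obtain ⟨e0, he0⟩ := hρs g
  have hUU : ∀ a : F, ∃ u ∈ U, R.rho ((e0 : G) * u * (e0 : G)⁻¹) = BlockModule.uU a := by
    intro a
    have h1 : BlockModule.uU a ∈ (Q : Subgroup _) := hQ ⟨Multiplicative.ofAdd a, rfl⟩
    rw [← hg, Sylow.coe_subgroup_smul, Subgroup.mem_pointwise_smul_iff_inv_smul_mem] at h1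
    obtain ⟨u, hu, hue⟩ := h1
    have hue' : R.rho (u : G) = g⁻¹ * BlockModule.uU a * g := by
      have : ρ u = (MulAut.conj g)⁻¹ • BlockModule.uU a := hue
      rw [show R.rho (u : G) = ρ u from rfl, this]
      simp [MulAut.smul_def, MulAut.inv_def, MulAut.conj_symm_apply]
    refine ⟨u, hu, ?_⟩
    have hue0 : R.rho (e0 : G) = g := he0
    rw [R.rho_mul _ (mul_mem e0.2 u.2) _ (inv_mem e0.2), R.rho_mul _ e0.2 _ u.2, R.rho_inv e0.2, hue0, hue']
    group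
  -- an element of `B` central in the image of `P'`
  have hPE : P' ≤ normalizer (E : Set G) := hP'A.trans hAE
  have hPS : P' ≤ normalizer (S : Set G) := fun x hx => relCent_normalized
    (le_normalizer (normalizer_le_bW E (hPE hx))) (normalizer_le_bW E (hPE hx)) (normalizer_le_bZ E (hPE hx))
  have hPB : P' ≤ normalizer (B : Set G) :=
    Baumann.le_normalizer_baumann hP'p (hBP.trans le_normalizer)
  obtain ⟨B₁, ⟨hB₁B, hB₁P, hB₁S⟩, hmin⟩ : ∃ B₁, Minimal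
      (fun X : Subgroup G => X ≤ B ∧ P' ≤ normalizer (X : Set G) ∧ ¬ X ≤ S) B₁ :=
    exists_minimal_of_wellFoundedLT _ ⟨B, le_rfl, hPB, hBS⟩
  have hcomm : ⁅B₁, P'⁆ ≤ S := by
    by_contra hns
    have hle : ⁅B₁, P'⁆ ≤ B₁ := CfsgLib.Solvable.commutator_le_of_le_normalizer hB₁P
    have h1 : B₁ ≤ ⁅B₁, P'⁆ := hmin ⟨hle.trans hB₁B, CfsgLib.Solvable.le_normalizer_commutator_right hB₁P, hns⟩ hle
    have hBP1 : B₁ ≤ P' := hB₁B.trans hBP
    refine hB₁S ((SubBlock.le_of_le_commutator_sup (N := S ⊓ B₁) (hBp.to_le hB₁B) hP'p hB₁P ?_ ?_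
      (h1.trans le_sup_left)).trans inf_le_left)
    · exact fun x hx => Baumann.normalizer_inf_le _ _ ⟨hPS (hBP1 hx), le_normalizer hx⟩
    · exact fun x hx => Baumann.normalizer_inf_le _ _ ⟨hPS hx, hB₁P hx⟩
  obtain ⟨b, hb1, hbS⟩ := SetLike.not_le_iff_exists.1 hB₁S
  have hbB := hB₁B hb1
  have hbC : b ∉ centralizer (bW 3 E : Set G) := fun hc => hbS (mem_stab_of_le inf_le_left
    (centralizer_le_normalizer _ hc) fun w hw => by
      rw [commutatorElement_eq_one_iff_mul_comm.2 (mem_centralizer_iff.1 hc w hw)]; exact one_mem _)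
  -- its conjugate is upper triangular
  set c := (e0 : G) * b * (e0 : G)⁻¹ with hc
  have hnE : ∀ x ∈ E, x ∈ normalizer (bW 3 E : Set G) ∧ x ∈ normalizer (bZ 3 E : Set G) := fun x hx =>
    ⟨le_normalizer_bW E hx, le_normalizer_bZ E hx⟩
  have hbn : b ∈ normalizer (E : Set G) := hBE hbB
  have hcn : c ∈ normalizer (E : Set G) :=
    mul_mem (mul_mem (le_normalizer e0.2) hbn) (inv_mem (le_normalizer e0.2))
  obtain ⟨χ, hχ⟩ := R.exists_map (normalizer_le_bW E hcn) (normalizer_le_bZ E hcn)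
  have hSc : ∀ x ∈ S, (e0 : G) * x * (e0 : G)⁻¹ ∈ S := fun x hx =>
    (mem_normalizer_iff.1 (relCent_normalized (le_normalizer (hnE _ e0.2).1) (hnE _ e0.2).1 (hnE _ e0.2).2) x).1 hx
  have htriv : ∀ x ∈ S, ∀ w ∈ bW 3 E, R.vec (x * w * x⁻¹) = R.vec w := fun x hx w hw => by
    refine (R.vec_eq_iff ((mem_normalizer_iff.1 hx.1 w).1 hw) hw).2 ?_
    rw [show x * w * x⁻¹ * w⁻¹ = ⁅w, x⁆⁻¹ by rw [commutatorElement_def]; group]
    exact inv_mem (hx.2.2 w hw)
  have hcw : ∀ w ∈ bW 3 E, c * w * c⁻¹ ∈ bW 3 E := fun w hw =>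
    (mem_normalizer_iff.1 (normalizer_le_bW E hcn) w).1 hw
  have hUc : ∀ (a : F) v, χ (Lin.act (BlockModule.uU a) v) = Lin.act (BlockModule.uU a) (χ v) := by
    intro a v
    obtain ⟨u, hu, hua⟩ := hUU a
    obtain ⟨w, hw, rfl⟩ := R.vec_surj v
    set u' := (e0 : G) * u * (e0 : G)⁻¹ with hu'
    have hu'E : u' ∈ E := mul_mem (mul_mem e0.2 hu.2) (inv_mem e0.2)
    have hu'w : u' * w * u'⁻¹ ∈ bW 3 E := (mem_normalizer_iff.1 (hnE _ hu'E).1 w).1 hw
    rw [← hua, ← R.vec_conj u' hu'E w hw, hχ _ hu'w, hχ w hw, ← R.vec_conj u' hu'E _ (hcw w hw),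
      show c * (u' * w * u'⁻¹) * c⁻¹ = (e0 * ⁅b, u⁆ * (e0 : G)⁻¹) * (u' * (c * w * c⁻¹) * u'⁻¹) *
        (e0 * ⁅b, u⁆ * (e0 : G)⁻¹)⁻¹ by rw [hu', hc, commutatorElement_def]; group,
      htriv _ (hSc _ (hcomm (commutator_mem_commutator hb1 hu.1))) _
        ((mem_normalizer_iff.1 (hnE _ hu'E).1 _).1 (hcw w hw))]
  obtain ⟨i, hi⟩ := IsPGroup.iff_orderOf.1 hBp ⟨b, hbB⟩
  rw [Subgroup.orderOf_mk] at hi
  have hiter : ∀ m : ℕ, ∀ w ∈ bW 3 E, χ^[m] (R.vec w) = R.vec (c ^ m * w * (c ^ m)⁻¹) := by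
    intro m
    induction m with
    | zero => intro w hw; simp
    | succ m ih =>
      intro w hw
      rw [Function.iterate_succ_apply', ih w hw,
        hχ _ ((mem_normalizer_iff.1 (normalizer_le_bW E (pow_mem hcn m)) w).1 hw), pow_succ']
      congr 1; group
  have hper : ∀ v, χ^[3 ^ i] v = v := fun v => by
    obtain ⟨w, hw, rfl⟩ := R.vec_surj v
    rw [hiter _ w hw, hc, conj_pow, ← hi, pow_orderOf_eq_one]
    simp
  obtain ⟨w0, hw0, hw0r⟩ := R.rho_surj _ (Lin.wW_mem hn)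
  have hw1 : c * w0 * c⁻¹ ∈ E := (mem_normalizer_iff.1 hcn w0).1 hw0
  have hM : ∀ v, χ (Lin.act Lin.wW v) = Lin.act (R.rho (c * w0 * c⁻¹)) (χ v) := by
    intro v
    obtain ⟨w, hw, rfl⟩ := R.vec_surj v
    rw [← hw0r, ← R.vec_conj _ hw0 w hw, hχ _ ((mem_normalizer_iff.1 (hnE _ hw0).1 w).1 hw), hχ w hw,
      ← R.vec_conj _ hw1 _ (hcw w hw)]
    congr 1; group
  obtain ⟨γ, hγ⟩ := Lin.eq_uU hn χ hUc hper hM
  obtain ⟨e1, he1, he1r⟩ := R.rho_surj (BlockModule.uU γ) (by rw [Lin.commutator_eq_top h4]; exact mem_top _)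
  have hcube : ∀ a : F, (BlockModule.uU a : Matrix.SpecialLinearGroup (Fin 2) F) ^ 3 = 1 := fun a => by
    have h3 := Lin.three_eq_zero hn
    rw [show (BlockModule.uU a : Matrix.SpecialLinearGroup (Fin 2) F) = Lin.upper (Multiplicative.ofAdd a) from rfl,
      ← map_pow, ← ofAdd_nsmul, nsmul_eq_mul, Nat.cast_ofNat, h3, zero_mul, ofAdd_zero, map_one]
  have hstab : e1⁻¹ * c ∈ S := by
    refine mem_stab_of_le inf_le_left (mul_mem (inv_mem (hnE _ he1).1) (normalizer_le_bW E hcn)) fun w hw => ?_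
    obtain ⟨h1, h2⟩ := R.vec_comm (mul_mem (inv_mem (hnE _ he1).1) (normalizer_le_bW E hcn)) hw
    refine (R.vec_eq_zero _ h1).1 ?_
    rw [h2, R.vec_conj_mul (inv_mem he1) (normalizer_le_bW E hcn) hw, ← hχ w hw, hγ, R.rho_inv he1, he1r,
      ← Lin.act_mul, inv_mul_cancel]
    simp [Lin.act]
  refine ⟨b, hbB, hbC, (e0 : G)⁻¹ * e1 * e0, mul_mem (mul_mem (inv_mem e0.2) he1) e0.2, ?_, ?_⟩
  · rw [← R.rho_pow (mul_mem (mul_mem (inv_mem e0.2) he1) e0.2)]
    rw [show ((e0 : G)⁻¹ * e1 * e0) ^ 3 = (e0 : G)⁻¹ * e1 ^ 3 * e0 by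
        simpa using (conj_pow : ((e0 : G)⁻¹ * e1 * (e0 : G)⁻¹⁻¹) ^ 3 = _),
      R.rho_mul _ (mul_mem (inv_mem e0.2) (pow_mem he1 _)) _ e0.2, R.rho_mul _ (inv_mem e0.2) _ (pow_mem he1 _),
      R.rho_pow he1, he1r, hcube, mul_one, R.rho_inv e0.2, inv_mul_cancel]
  · have h1 := (mem_normalizer_iff''.1 (relCent_normalized (le_normalizer (hnE _ e0.2).1) (hnE _ e0.2).1
      (hnE _ e0.2).2) _).1 hstab
    rwa [show (e0 : G)⁻¹ * (e1⁻¹ * c) * e0 = ((e0 : G)⁻¹ * e1 * e0)⁻¹ * b by rw [hc]; group] at h1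

/-- An element of `B(T)` acting quadratically on both sections. -/
theorem Hard.exists_quad (h : Hard p (T : Subgroup G) E) (hE : IsBaumannBlock p (T : Subgroup G) E) :
    ∃ b ∈ baumannSubgroupOf p (T : Subgroup G), b ∉ centralizer (bW p E : Set G) ∧
      (∀ w ∈ bW p E, ⁅⁅w, b⁆, b⁆ ∈ bZ p E) ∧ ∀ q ∈ pCoreOf p E, ⁅⁅q, b⁆, b⁆ ∈ bW p E := by
  obtain ⟨F, _, _, n, hn, hZn, ⟨R⟩, ⟨R'⟩⟩ := h.exists_reps hE
  have hp := h.exc.three
  have hBp : IsPGroup p ↥(baumannSubgroupOf p (T : Subgroup G)) := T.2.to_le (Baumann.baumann_le _)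
  have hBE := Block.baumann_le_normalizer hE
  rcases Lin.three_or_four hn with hq | hq
  · obtain ⟨b, hb, hbC⟩ := baumann_not_le_centralizer hE
    refine ⟨b, hb, hbC, fun w hw => ?_, fun q hq' => ?_⟩
    all_goals have hbn : zpowers b ≤ normalizer (E : Set G) := zpowers_le.2 (hBE hb)
    all_goals have hbp : IsPGroup p ↥(zpowers b) := hBp.to_le (zpowers_le.2 hb)
    all_goals
      have hidx : ((bZ p E).subgroupOf (bW p E)).index = p ^ 2 := by
        rw [← h.exc.cardZ, hZn, ← hn, hq, hp]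
    · exact SubBlock.quad_section (M := bW p E) (isPGroup_bW E) hbp inf_le_left
        (by rw [card_eq_mul_index (inf_le_left : bZ p E ≤ bW p E), hidx])
        (hbn.trans (normalizer_le_bW E)) ((bW_le E).trans (le_normalizer_bZ E))
        (hbn.trans (normalizer_le_bZ E))
        (commutator_mem_commutator (commutator_mem_commutator hw (mem_zpowers b)) (mem_zpowers b))
    · exact SubBlock.quad_section (M := pCoreOf p E) (CfsgLib.LocalEven.isPGroup_pCoreOf p E) hbp (bW_le_core E)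
        (by rw [card_eq_mul_index (bW_le_core (p := p) E), h.exc.index_eq, hidx])
        (hbn.trans (Block.normalizer_le_pCoreOf E))
        ((CfsgLib.LocalEven.pCoreOf_le p E).trans (le_normalizer_bW E)) (hbn.trans (normalizer_le_bW E))
        (commutator_mem_commutator (commutator_mem_commutator hq' (mem_zpowers b)) (mem_zpowers b))
  obtain ⟨b, hb, hbC, e, he, he3, hg⟩ := h.exists_decomp hE hn hq R
  set g := e⁻¹ * b with hgdef
  have hbeg : b = e * g := by rw [hgdef]; group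
  have hgn : g ∈ normalizer (E : Set G) := mul_mem (inv_mem (le_normalizer he)) (hBE hb)
  have hWn : g ∈ normalizer (bW p E : Set G) := normalizer_le_bW E hgn
  have hQn : g ∈ normalizer (pCoreOf p E : Set G) := Block.normalizer_le_pCoreOf E hgn
  have hgW : ∀ a ∈ bW p E, R.vec (g * a * g⁻¹) = R.vec a := fun a ha => by
    refine (R.vec_eq_iff ((mem_normalizer_iff.1 hWn a).1 ha) ha).2 ?_
    rw [show g * a * g⁻¹ * a⁻¹ = ⁅a, g⁆⁻¹ by rw [commutatorElement_def]; group]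
    exact inv_mem (hg.2.2 a ha)
  refine ⟨b, hb, hbC, R.quad_mem hn (normalizer_le_bW E (hBE hb)) (j := 1) (by rwa [pow_one]) (fun a ha => by
    rw [hbeg, R.vec_conj_mul he hWn ha, hgW a ha]), ?_⟩
  -- `g` acts as a scalar on `Q/W`
  obtain ⟨χ, hχ⟩ := R'.exists_map hQn hWn
  have hcomm : ∀ x ∈ E, R'.rho (g * x * g⁻¹) = R'.rho x := fun x hx => by
    have hgx : g * x * g⁻¹ ∈ E := (mem_normalizer_iff.1 hgn x).1 hx
    have hd : g * x * g⁻¹ * x⁻¹ ∈ E := mul_mem hgx (inv_mem hx)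
    have hdQ : g * x * g⁻¹ * x⁻¹ ∈ pCoreOf p E := by
      refine (R.rho_eq_one _ hd).1 (Lin.act_ext fun v => ?_)
      obtain ⟨a, ha, rfl⟩ := R.vec_surj v
      have ha1 : x⁻¹ * a * x ∈ bW p E := (mem_normalizer_iff''.1 (le_normalizer_bW E hx) a).1 ha
      have ha2 : g⁻¹ * (x⁻¹ * a * x) * g ∈ bW p E := (mem_normalizer_iff''.1 hWn _).1 ha1
      have ha3 : x * (g⁻¹ * (x⁻¹ * a * x) * g) * x⁻¹ ∈ bW p E :=
        Baumann.conj_mem_of_le_normalizer (le_normalizer_bW E) hx ha2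
      have e1 : R.vec (g⁻¹ * (x⁻¹ * a * x) * g) = R.vec (x⁻¹ * a * x) := by
        rw [← hgW _ ha2]; congr 1; group
      rw [← R.vec_conj _ hd a ha, show g * x * g⁻¹ * x⁻¹ * a * (g * x * g⁻¹ * x⁻¹)⁻¹ =
        g * (x * (g⁻¹ * (x⁻¹ * a * x) * g) * x⁻¹) * g⁻¹ by group, hgW _ ha3, R.vec_conj x hx _ ha2, e1,
        ← R.vec_conj x hx _ ha1, show x * (x⁻¹ * a * x) * x⁻¹ = a by group]
      simp [Lin.act]
    have := (R'.rho_eq_one _ hd).2 hdQ
    rw [R'.rho_mul _ hgx _ (inv_mem hx), R'.rho_inv hx, mul_inv_eq_one] at this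
    exact this
  have hsc : ∀ r ∈ commutator (Matrix.SpecialLinearGroup (Fin 2) F), ∀ v,
      χ (Lin.act r v) = Lin.act r (χ v) := by
    intro r hr v
    obtain ⟨x, hx, rfl⟩ := R'.rho_surj r hr
    obtain ⟨a, ha, rfl⟩ := R'.vec_surj v
    have hga : g * a * g⁻¹ ∈ pCoreOf p E := (mem_normalizer_iff.1 hQn a).1 ha
    rw [← R'.vec_conj x hx a ha, hχ _ (Baumann.conj_mem_of_le_normalizer R'.le_normalizer hx ha), hχ a ha,
      show g * (x * a * x⁻¹) * g⁻¹ = g * x * g⁻¹ * (g * a * g⁻¹) * (g * x * g⁻¹)⁻¹ by group,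
      R'.vec_conj _ ((mem_normalizer_iff.1 hgn x).1 hx) _ hga, hcomm x hx]
  obtain ⟨k, hk⟩ := Lin.comm_scalar hn χ hsc
  set M := R'.rho e with hM
  have hM3 : M ^ 3 = 1 := by
    rw [hM, ← R'.rho_pow he, R'.rho_eq_one _ (pow_mem he 3), ← R.rho_eq_one _ (pow_mem he 3), R.rho_pow he, he3]
  have hbv : ∀ a ∈ pCoreOf p E, R'.vec (b * a * b⁻¹) = k • Lin.act M (R'.vec a) := fun a ha => by
    rw [hbeg, R'.vec_conj_mul he hQn ha, ← hχ a ha, hk]
    exact Matrix.mulVec_smul _ _ _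
  obtain ⟨i, hi⟩ := IsPGroup.iff_orderOf.1 hBp ⟨b, hb⟩
  rw [Subgroup.orderOf_mk] at hi
  have hbQ : b ∈ normalizer (pCoreOf p E : Set G) := Block.normalizer_le_pCoreOf E (hBE hb)
  have hit : ∀ m : ℕ, ∀ a ∈ pCoreOf p E, R'.vec (b ^ m * a * (b ^ m)⁻¹) = k ^ m • Lin.act (M ^ m) (R'.vec a) := by
    intro m
    induction m with
    | zero => intro a ha; simp [Lin.act]
    | succ m ih =>
      intro a ha
      rw [show b ^ (m + 1) * a * (b ^ (m + 1))⁻¹ = b * (b ^ m * a * (b ^ m)⁻¹) * b⁻¹ by rw [pow_succ']; group,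
        hbv _ ((mem_normalizer_iff.1 (pow_mem hbQ m) a).1 ha), ih a ha, pow_succ', pow_succ', Lin.act_mul,
        ← smul_smul]
      congr 1
      exact Matrix.mulVec_smul _ _ _
  have hk1 : k = 1 := by
    obtain ⟨a, ha, hav⟩ := R'.vec_surj ![1, 0]
    have h1 := hit (3 ^ (i + 1)) a ha
    have hMi : M ^ 3 ^ (i + 1) = 1 := by rw [pow_succ', pow_mul, hM3, one_pow]
    have hbi : b ^ 3 ^ (i + 1) = 1 := by rw [pow_succ, pow_mul, ← hp, ← hi, pow_orderOf_eq_one, one_pow]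
    rw [hMi, hbi, one_mul, inv_one, mul_one, hav] at h1
    have h2 := congrFun h1 0
    simp [Lin.act] at h2
    exact Lin.eq_one_of_pow hn h2.symm
  exact R'.quad_mem hn hbQ (j := 1) (by rwa [pow_one]) fun a ha => by rw [hbv a ha, hk1, one_smul]

end CfsgLib.LocalEven.BlockCentral
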