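import Mathlib
import Cfsg.Agent.Lib.LocalEven.BlockCentral.Quad

/-!
`N(Q) ∩ C(W_E)` normalises the block.
-/

set_option autoImplicit false

namespace CfsgLib.LocalEven.BlockCentral

open Subgroup Cfsg Matrix
open CfsgLib.LocalEven.SubBlock
open scoped Pointwise commutatorElement

variable {G : Type*} [Group G] [Finite G] {p : ℕ} [Fact p.Prime] {T : Sylow p G} {E : Subgroup G} {t : G}

/-- The elements of `C(W_E)` trivial on `Q/W`. -/
abbrev cC2 (p : ℕ) (E : Subgroup G) : Subgroup G := cW p E ⊓ stab (pCoreOf p E) (bW p E)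

omit [Finite G] [Fact p.Prime] in
theorem Inv.inv_eq (ht : Inv p E t) : t⁻¹ = t := inv_eq_of_mul_eq_one_right ht.sq

omit [Finite G] [Fact p.Prime] in
theorem Inv.conj_eq (ht : Inv p E t) (x : G) : t * x * t⁻¹ = t * x * t := by rw [ht.inv_eq]

theorem Hard.odd_cV (h : Hard p (T : Subgroup G) E) {x : G} (hx : x ∈ cV p E) : Odd (orderOf x) := by
  obtain ⟨k, hk⟩ := IsPGroup.iff_orderOf.1 (isPGroup_cV (p := p) (E := E)) ⟨x, hx⟩
  rw [Subgroup.orderOf_mk] at hk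
  rw [hk, h.exc.three]
  exact (by decide : Odd 3).pow

theorem Hard.eq_one_of_sq (h : Hard p (T : Subgroup G) E) {x : G} (hx : x ∈ cV p E) (h2 : x * x = 1) : x = 1 := by
  obtain ⟨k, hk⟩ := h.odd_cV hx
  have h3 : orderOf x ∣ 2 := orderOf_dvd_of_pow_eq_one (by rw [pow_two]; exact h2)
  refine orderOf_eq_one_iff.1 ?_
  rcases (Nat.dvd_prime Nat.prime_two).1 h3 with h4 | h4 <;> omega

theorem Hard.mem_of_sq (h : Hard p (T : Subgroup G) E) {X : Subgroup G} {x : G} (hx : x ∈ cV p E)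
    (h2 : x * x ∈ X) : x ∈ X := by
  refine SubBlock.mem_of_coprime_pows (i := 2) (j := orderOf x) ?_ (by rw [pow_two]; exact h2)
    (by rw [pow_orderOf_eq_one]; exact one_mem X)
  exact Nat.coprime_two_left.2 (h.odd_cV hx)

omit [Finite G] [Fact p.Prime] in
theorem Inv.centralizes_bZ (ht : Inv p E t) {z : G} (hz : z ∈ bZ p E) : t * z * t = z := by
  rw [← mem_centralizer_iff.1 hz.2 t ht.mem |>.symm, mul_assoc, ht.sq, mul_one]

theorem Inv.conj_bW (ht : Inv p E t) {w : G} (hw : w ∈ bW p E) : t * w * t ∈ bW p E :=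
  ht.conj_eq w ▸ Baumann.conj_mem_of_le_normalizer (le_normalizer_bW E) ht.mem hw

theorem Inv.conj_core (ht : Inv p E t) {q : G} (hq : q ∈ pCoreOf p E) : t * q * t ∈ pCoreOf p E :=
  ht.conj_eq q ▸ Baumann.conj_mem_of_le_normalizer (CfsgLib.LocalEven.le_normalizer_pCoreOf p E) ht.mem hq

/-- The fixed points of `t` in `Q` form `Z`. -/
theorem Hard.mem_bZ_of_fixed (h : Hard p (T : Subgroup G) E) (hE : IsBaumannBlock p (T : Subgroup G) E)
    (ht : Inv p E t) {q : G} (hq : q ∈ pCoreOf p E) (hf : t * q * t = q) : q ∈ bZ p E := by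
  have h1 := ht.invQ q hq
  rw [hf] at h1
  have hW : q ∈ bW p E := h.mem_of_sq (h.core_le_cV hE hq) h1
  have h2 := ht.invW q hW
  rw [hf] at h2
  exact h.mem_of_sq (h.core_le_cV hE hq) h2

/-- `t` inverts `W_E`. -/
theorem Hard.inv_bWE (h : Hard p (T : Subgroup G) E) (hE : IsBaumannBlock p (T : Subgroup G) E)
    (ht : Inv p E t) {w : G} (hw : w ∈ bWE p E) : t * w * t = w⁻¹ := by
  let I : Subgroup G :=
    { carrier := {w | w ∈ bW p E ∧ t * w * t = w⁻¹}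
      one_mem' := ⟨one_mem _, by rw [mul_one, ht.sq, inv_one]⟩
      mul_mem' := fun {a b} ha hb => ⟨mul_mem ha.1 hb.1, by
        rw [show t * (a * b) * t = (t * a * t⁻¹) * (t * b * t) by group, ht.inv_eq, ha.2, hb.2, ← _root_.mul_inv_rev,
          bW_comm hb.1 ha.1]⟩
      inv_mem' := fun {a} ha => ⟨inv_mem ha.1, by
        rw [show t * a⁻¹ * t = (t⁻¹ * a * t⁻¹)⁻¹ by group, ht.inv_eq, ha.2]⟩ }
  have hIn : ∀ e ∈ E, ∀ a ∈ I, e * a * e⁻¹ ∈ I := by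
    intro e he a ha
    refine ⟨Baumann.conj_mem_of_le_normalizer (le_normalizer_bW E) he ha.1, ?_⟩
    set u := ⁅e⁻¹, t⁆ with hu
    have huQ : u ∈ pCoreOf p E := ht.central _ (inv_mem he)
    have hcomm : u * a⁻¹ * u⁻¹ = a⁻¹ := by
      rw [core_comm huQ (inv_mem ha.1), mul_inv_cancel_right]
    calc t * (e * a * e⁻¹) * t = e * (u * (t * a * t) * u⁻¹) * e⁻¹ := by
          rw [hu, commutatorElement_def, inv_inv]
          simp only [_root_.mul_inv_rev, inv_inv, ht.inv_eq, mul_assoc]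
          simp [← mul_assoc, ht.sq]
      _ = e * a⁻¹ * e⁻¹ := by rw [ha.2, hcomm]
      _ = (e * a * e⁻¹)⁻¹ := by group
  have key : ⁅bW p E, E⁆ ≤ I := by
    rw [commutator_le]
    intro x hx e he
    have hxx : ⁅x * x, e⁆ = ⁅x, e⁆ * ⁅x, e⁆ := by
      have hc : ⁅x, e⁆ ∈ bW p E := bWE_le E (commutator_mem_commutator hx he)
      rw [show ⁅x * x, e⁆ = (x * ⁅x, e⁆ * x⁻¹) * ⁅x, e⁆ by simp only [commutatorElement_def]; group,
        bW_comm hx hc, mul_inv_cancel_right]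
    set a := x * (t * x * t)⁻¹ with ha
    have haI : a ∈ I := by
      refine ⟨mul_mem hx (inv_mem (ht.conj_bW hx)), ?_⟩
      rw [ha]
      simp only [_root_.mul_inv_rev, inv_inv, ht.inv_eq]
      calc t * (x * (t * (x⁻¹ * t))) * t = (t * x * t) * (x⁻¹ * (t * t)) := by simp only [mul_assoc]
        _ = t * x * t * x⁻¹ := by rw [ht.sq, mul_one]
        _ = _ := by simp only [mul_assoc]
    have hm : a⁻¹ * (x * x) ∈ bZ p E := by
      have h2 := ht.invW x hx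
      have : a⁻¹ * (x * x) = t * x * t * x := by
        rw [ha, _root_.mul_inv_rev, inv_inv]; group
      rwa [this]
    have h1 : ⁅x * x, e⁆ ∈ I := by
      have : x * x = a * (a⁻¹ * (x * x)) := by group
      rw [this, commutator_mul_bZ hm he, commutatorElement_def]
      have := mul_mem haI (hIn e he _ (inv_mem haI))
      rwa [show a * e * a⁻¹ * e⁻¹ = a * (e * a⁻¹ * e⁻¹) by group]
    rw [hxx] at h1
    exact h.mem_of_sq (h.bW_le_cV hE (bWE_le E (commutator_mem_commutator hx he))) h1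
  exact (key hw).2

theorem Hard.bWE_inf_bZ (h : Hard p (T : Subgroup G) E) (hE : IsBaumannBlock p (T : Subgroup G) E)
    (ht : Inv p E t) {w : G} (hw : w ∈ bWE p E) (hz : w ∈ bZ p E) : w = 1 := by
  refine h.eq_one_of_sq (bWE_le_cV h.char hE hw) ?_
  have := h.inv_bWE hE ht hw
  rw [ht.centralizes_bZ hz] at this
  rw [mul_eq_one_iff_eq_inv]; exact this

/-- `V = Q C_V(t)`. -/
theorem Hard.split (h : Hard p (T : Subgroup G) E) (hE : IsBaumannBlock p (T : Subgroup G) E)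
    (ht : Inv p E t) {v : G} (hv : v ∈ cV p E) :
    ∃ q ∈ pCoreOf p E, ∃ v₀ ∈ cV p E, v = q * v₀ ∧ t * v₀ = v₀ * t := by
  have hc : v * t * v⁻¹ * t ∈ pCoreOf p E := by
    have h1 := commutator_cV_le hE (commutator_mem_commutator hv ht.mem)
    rwa [commutatorElement_def, ht.inv_eq] at h1
  obtain ⟨y, hy, v0, hv0, hc0, -, -⟩ := exists_fix (fun x hx => h.odd_cV (h.core_le_cV hE hx)) ht.sq hc
  refine ⟨y, hy, v0, ?_, hv0, hc0⟩
  rw [show v0 = y⁻¹ * v by rw [hv0]; group]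
  exact mul_mem (inv_mem (h.core_le_cV hE hy)) hv

/-- `Q` is generated by the commutators of `V` with `t`. -/
theorem Hard.core_eq_closure (h : Hard p (T : Subgroup G) E) (hE : IsBaumannBlock p (T : Subgroup G) E)
    (ht : Inv p E t) : pCoreOf p E = closure {x | ∃ v ∈ cV p E, x = v * t * v⁻¹ * t} := by
  set D := closure {x | ∃ v ∈ cV p E, x = v * t * v⁻¹ * t} with hD
  have hle : D ≤ pCoreOf p E := (closure_le _).2 fun x ⟨v, hv, hx⟩ => by
    have h1 := commutator_cV_le hE (commutator_mem_commutator hv ht.mem)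
    rw [commutatorElement_def, ht.inv_eq] at h1
    exact hx ▸ h1
  refine le_antisymm ?_ hle
  have hmem : ∀ v ∈ cV p E, v * t * v⁻¹ * t ∈ D := fun v hv => subset_closure ⟨v, hv, rfl⟩
  have hWE : bWE p E ≤ D := fun w hw => by
    have hwV := bWE_le_cV h.char hE hw
    have h1 := hmem w hwV
    have h2 : t * w⁻¹ * t = w := by
      have := congrArg Inv.inv (h.inv_bWE hE ht hw)
      simpa [_root_.mul_inv_rev, ht.inv_eq, mul_assoc] using this
    rw [show w * t * w⁻¹ * t = w * (t * w⁻¹ * t) by group, h2] at h1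
    exact h.mem_of_sq hwV h1
  have hgen : ∀ q ∈ pCoreOf p E, ∃ d ∈ D, ∃ w ∈ bW p E, q * q = d * w := by
    intro q hq
    refine ⟨q * t * q⁻¹ * t, hmem q (h.core_le_cV hE hq), (q * t * q⁻¹ * t)⁻¹ * (q * q), ?_, by group⟩
    have h1 := ht.invQ q hq
    rwa [show (q * t * q⁻¹ * t)⁻¹ * (q * q) = t * q * t * q by
      simp only [_root_.mul_inv_rev, inv_inv, ht.inv_eq, mul_assoc]; simp]
  have hsup : pCoreOf p E ≤ D ⊔ bW p E := fun q hq => by
    obtain ⟨d, hd, w, hw, e⟩ := hgen q hq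
    exact h.mem_of_sq (h.core_le_cV hE hq) (e ▸ mul_mem (mem_sup_left hd) (mem_sup_right hw))
  have hWn : bW p E ≤ centralizer (D : Set G) := fun w hw => mem_centralizer_iff.2 fun d hd =>
    core_comm (hle hd) hw
  have hWn' : bW p E ≤ normalizer (D : Set G) := hWn.trans (centralizer_le_normalizer _)
  have hZ : bZ p E ≤ D := by
    rw [← h.exc.derived, commutator_le]
    intro a ha b hb
    have ha' : a ∈ (↑(D ⊔ bW p E) : Set G) := hsup ha
    have hb' : b ∈ (↑(D ⊔ bW p E) : Set G) := hsup hb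
    rw [coe_mul_of_right_le_normalizer_left _ _ hWn'] at ha' hb'
    obtain ⟨d, hd, w, hw, rfl⟩ := ha'
    obtain ⟨d', hd', w', hw', rfl⟩ := hb'
    have c1 : ∀ x ∈ D, ∀ y ∈ bW p E, x * y = y * x := fun x hx y hy => core_comm (hle hx) hy
    have f1 : (d * w) * (d' * w') = (d * d') * (w * w') := by
      rw [mul_assoc, ← mul_assoc w, ← c1 d' hd' w hw, mul_assoc, mul_assoc]
    have f2 : (d' * w') * (d * w) = (d' * d) * (w * w') := by
      rw [mul_assoc, ← mul_assoc w', ← c1 d hd w' hw', mul_assoc, bW_comm hw' hw, mul_assoc]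
    rw [commutatorElement_def, show d * w * (d' * w') * (d * w)⁻¹ * (d' * w')⁻¹ =
      (d * w * (d' * w')) * ((d' * w') * (d * w))⁻¹ by group, f1, f2]
    rw [show d * d' * (w * w') * (d' * d * (w * w'))⁻¹ = d * d' * (d' * d)⁻¹ by group]
    exact mul_mem (mul_mem hd hd') (inv_mem (mul_mem hd' hd))
  exact hsup.trans (sup_le le_rfl ((bWE_sup hE).ge.trans (sup_le hWE hZ)))

/-- An element normalising `V` and commuting with `t` normalises `Q`. -/
theorem Hard.normalizer_of_comm (h : Hard p (T : Subgroup G) E) (hE : IsBaumannBlock p (T : Subgroup G) E)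
    (ht : Inv p E t) {c : G} (hc : c ∈ normalizer (cV p E : Set G)) (hct : t * c = c * t) :
    c ∈ normalizer (pCoreOf p E : Set G) := by
  refine CfsgLib.LocalEven.mem_normalizer_of_conj_le ?_
  rw [h.core_eq_closure hE ht, MonoidHom.map_closure]
  refine closure_mono ?_
  rintro _ ⟨x, ⟨v, hv, rfl⟩, rfl⟩
  refine ⟨c * v * c⁻¹, (mem_normalizer_iff.1 hc v).1 hv, ?_⟩
  show c * (v * t * v⁻¹ * t) * c⁻¹ = c * v * c⁻¹ * t * (c * v * c⁻¹)⁻¹ * t
  have h1 : t * c⁻¹ = c⁻¹ * t := by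
    rw [eq_inv_mul_iff_mul_eq, ← mul_assoc, ← hct, mul_assoc, mul_inv_cancel, mul_one]
  calc c * (v * t * v⁻¹ * t) * c⁻¹ = c * v * t * v⁻¹ * (t * c⁻¹) := by group
    _ = c * v * t * v⁻¹ * c⁻¹ * t := by rw [h1]; group
    _ = c * v * c⁻¹ * (c * t) * v⁻¹ * c⁻¹ * t := by group
    _ = c * v * c⁻¹ * (t * c) * v⁻¹ * c⁻¹ * t := by rw [hct]
    _ = _ := by group

/-- The stabiliser argument. -/
theorem Hard.mem_normalizer_of_stab (h : Hard p (T : Subgroup G) E) (hE : IsBaumannBlock p (T : Subgroup G) E)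
    {c : G} (hc : c ∈ cW p E) (hcQ : c ∈ normalizer (pCoreOf p E : Set G))
    (hs : ∀ e ∈ E, ⁅e, c⁆ ∈ stab (pCoreOf p E) (bW p E)) : c ∈ normalizer (E : Set G) := by
  have hQV := h.core_le_cV hE
  have hEV : E ≤ normalizer (cV p E : Set G) := le_normalizer.trans normalizer_le_cV
  refine mem_normalizer_of_pGroup hE (X := cC2 p E ⊓ stab (cV p E) (pCoreOf p E)) ?_ (fun g hg => ?_)
    fun e he => ?_
  · refine isPGroup_of_stab h.char hE hQV (bW_le_core E)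
      ((CfsgLib.LocalEven.pCoreOf_le p E).trans (le_normalizer_bW E)) fun x hx => ⟨hx.2, hx.1.2, ?_⟩
    refine mem_stab_of_le bot_le hx.1.2.2.1 fun w hw => ?_
    rw [commutatorElement_eq_one_iff_mul_comm.2 (h.centralizes_bW hE hx.1.1 hx.1.2 hw).symm]
    exact one_mem _
  · exact Baumann.normalizer_inf_le _ _ ⟨Baumann.normalizer_inf_le _ _ ⟨normalizer_le_cW hg,
      relCent_normalized (le_normalizer (Block.normalizer_le_pCoreOf E hg)) (Block.normalizer_le_pCoreOf E hg)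
        (normalizer_le_bW E hg)⟩,
      relCent_normalized (le_normalizer (normalizer_le_cV hg)) (normalizer_le_cV hg) (Block.normalizer_le_pCoreOf E hg)⟩
  · refine ⟨⟨?_, hs e he⟩, ?_⟩
    · rw [commutatorElement_def]
      exact mul_mem ((mem_normalizer_iff.1 (normalizer_le_cW (le_normalizer he)) c).1 hc) ((cW p E).inv_mem hc)
    · exact (commutator_mem_stab (mem_stab_of_le hQV (hEV he) fun v hv =>
        commutator_cV_le hE (commutator_mem_commutator hv he))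
        (cW_le_normalizer_cV (le_normalizer hc)) hcQ).1

theorem Hard.cC2_le_normalizer (h : Hard p (T : Subgroup G) E) (hE : IsBaumannBlock p (T : Subgroup G) E) :
    cC2 p E ≤ normalizer (E : Set G) := fun _ hc => h.mem_normalizer_of_stab hE hc.1 hc.2.1
  fun _ he => (commutator_mem_stab hc.2 (CfsgLib.LocalEven.le_normalizer_pCoreOf p E he)
    (le_normalizer_bW E he)).2

/-- `[q, h]` is equivariant. -/
theorem Hard.equivariant (h : Hard p (T : Subgroup G) E) (hE : IsBaumannBlock p (T : Subgroup G) E)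
    {x e q : G} (hx : x ∈ cC2 p E) (he : e ∈ E) (hq : q ∈ pCoreOf p E) :
    ∃ z ∈ bZ p E, ⁅e * q * e⁻¹, x⁆ = e * ⁅q, x⁆ * e⁻¹ * z := by
  set u := ⁅x⁻¹, e⁻¹⁆ with hu
  have huQ : u ∈ pCoreOf p E := by
    rw [hu, ← commutatorElement_inv]
    exact inv_mem (commutator_mem_core hE ((cW p E).inv_mem hx.1) (inv_mem (h.cC2_le_normalizer hE hx)) (inv_mem he))
  have hz : ⁅q, u⁆ ∈ bZ p E := h.exc.derived.le (commutator_mem_commutator hq huQ)
  refine ⟨⁅q, u⁆, hz, ?_⟩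
  have hze : e * ⁅q, u⁆ * e⁻¹ = ⁅q, u⁆ := by rw [mem_centralizer_iff.1 hz.2 e he, mul_inv_cancel_right]
  calc ⁅e * q * e⁻¹, x⁆ = e * ⁅q, x * u⁆ * e⁻¹ := by
        rw [show x * u = e⁻¹ * x * e by rw [hu, commutatorElement_def]; group]
        simp only [commutatorElement_def]; group
    _ = e * ⁅q, x⁆ * e⁻¹ * (e * (x * ⁅q, u⁆ * x⁻¹) * e⁻¹) := by simp only [commutatorElement_def]; group
    _ = _ := by rw [h.centralizes_bW hE hx.1 hx.2 hz.1, mul_inv_cancel_right, hze]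

/-- The kernel of a non-trivial `q ↦ [q, x]` is `W`. -/
theorem Hard.theta_inj (h : Hard p (T : Subgroup G) E) (hE : IsBaumannBlock p (T : Subgroup G) E)
    {x : G} (hx : x ∈ cC2 p E) (hne : ∃ q ∈ pCoreOf p E, ⁅q, x⁆ ∉ bZ p E) {q : G} (hq : q ∈ pCoreOf p E)
    (hqx : ⁅q, x⁆ ∈ bZ p E) : q ∈ bW p E := by
  set K := relCent (pCoreOf p E) ({x} : Set G) (bZ p E) with hK
  have hn : pCoreOf p E ≤ normalizer (bZ p E : Set G) :=
    (CfsgLib.LocalEven.pCoreOf_le p E).trans (le_normalizer_bZ E)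
  have hmem : ∀ u ∈ pCoreOf p E, ⁅u, x⁆ ∈ bZ p E → u ∈ K := fun u hu h1 =>
    ⟨hu, hn hu, fun y hy => by rw [Set.mem_singleton_iff.1 hy, ← commutatorElement_inv]; exact inv_mem h1⟩
  have hK' : ∀ u ∈ K, ⁅u, x⁆ ∈ bZ p E := fun u hu => by
    rw [← commutatorElement_inv]; exact inv_mem (hu.2.2 x rfl)
  have hWK : bW p E ≤ K := fun w hw => hmem w (bW_le_core E hw) (by
    rw [commutatorElement_eq_one_iff_mul_comm.2 (h.centralizes_bW hE hx.1 hx.2 hw).symm]; exact one_mem _)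
  have hEK : E ≤ normalizer (K : Set G) := fun e he => CfsgLib.LocalEven.mem_normalizer_of_conj_le (by
    rintro _ ⟨u, hu, rfl⟩
    show e * u * e⁻¹ ∈ K
    obtain ⟨z, hz, e1⟩ := h.equivariant hE hx he hu.1
    refine hmem _ (Baumann.conj_mem_of_le_normalizer (CfsgLib.LocalEven.le_normalizer_pCoreOf p E) he hu.1) ?_
    rw [e1]
    exact mul_mem (Baumann.conj_mem_of_le_normalizer (le_normalizer_bZ E) he (hK' u hu)) hz)
  rcases h.exc.irr K hWK relCent_le hEK with h1 | h1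
  · exact h1.le (hmem q hq hqx)
  · obtain ⟨u, hu, hux⟩ := hne
    exact absurd (hK' u (h1.ge hu)) hux

/-- No invariant complement to `W/Z` in `Q/Z`. -/
theorem Hard.no_complement (h : Hard p (T : Subgroup G) E) (hE : IsBaumannBlock p (T : Subgroup G) E)
    (Y : Subgroup G) (hYQ : Y ≤ pCoreOf p E) (hYW : pCoreOf p E ≤ Y ⊔ bW p E) (hY : Y ⊓ bW p E ≤ bZ p E)
    (hYn : baumannSubgroupOf p (T : Subgroup G) ≤ normalizer (Y : Set G)) : False := by
  obtain ⟨b, hb, hbC, hW, hQ⟩ := h.exists_quad hE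
  have hbE := Block.baumann_le_normalizer hE hb
  have hbY := hYn hb
  have hbW := normalizer_le_bW (p := p) E hbE
  have hbZ := normalizer_le_bZ (p := p) E hbE
  have hbQ := Block.normalizer_le_pCoreOf (p := p) E hbE
  have hWn : bW p E ≤ normalizer (Y : Set G) := fun w hw => centralizer_le_normalizer _
    (mem_centralizer_iff.2 fun y hy => core_comm (hYQ hy) hw)
  have hcm : ∀ {x}, ∀ {K : Subgroup G}, b ∈ normalizer (K : Set G) → x ∈ K → ⁅x, b⁆ ∈ K := by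
    intro x K hK hx
    rw [show ⁅x, b⁆ = x * (b * x⁻¹ * b⁻¹) by rw [commutatorElement_def]; group]
    exact mul_mem hx ((mem_normalizer_iff.1 hK _).1 (inv_mem hx))
  have key : ∀ q ∈ pCoreOf p E, ⁅⁅q, b⁆, b⁆ ∈ bZ p E := by
    intro q hq
    have hq' : q ∈ (↑(Y ⊔ bW p E) : Set G) := hYW hq
    rw [coe_mul_of_right_le_normalizer_left _ _ hWn] at hq'
    obtain ⟨y, hy, w, hw, rfl⟩ := hq'
    have c1 : ∀ {a c}, a ∈ pCoreOf p E → c ∈ bW p E → a * c * a⁻¹ = c := fun ha hc => by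
      rw [core_comm ha hc, mul_inv_cancel_right]
    have e1 : ⁅y * w, b⁆ = ⁅w, b⁆ * ⁅y, b⁆ := by
      rw [show ⁅y * w, b⁆ = (y * ⁅w, b⁆ * y⁻¹) * ⁅y, b⁆ by simp only [commutatorElement_def]; group,
        c1 (hYQ hy) (hcm hbW hw)]
    have hy1 : ⁅y, b⁆ ∈ Y := hcm hbY hy
    have hy2 : ⁅⁅y, b⁆, b⁆ ∈ bZ p E := hY ⟨hcm hbY hy1, hQ y (hYQ hy)⟩
    rw [e1, show ⁅⁅w, b⁆ * ⁅y, b⁆, b⁆ = (⁅w, b⁆ * ⁅⁅y, b⁆, b⁆ * ⁅w, b⁆⁻¹) * ⁅⁅w, b⁆, b⁆ by
      simp only [commutatorElement_def]; group]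
    refine mul_mem ?_ (hW w hw)
    rw [bW_comm (hcm hbW hw) hy2.1, mul_inv_cancel_right]
    exact hy2
  refine h.exc.nonquad b hb hbC ?_
  set S1 := relCent (pCoreOf p E) (zpowers b : Set G) (bZ p E) with hS1
  have hQZ : pCoreOf p E ≤ normalizer (bZ p E : Set G) :=
    (CfsgLib.LocalEven.pCoreOf_le p E).trans (le_normalizer_bZ E)
  have hzp : ∀ x ∈ pCoreOf p E, ⁅x, b⁆ ∈ bZ p E → ∀ y ∈ zpowers b, ⁅x, y⁆ ∈ bZ p E := by
    intro x _ h1 y hy
    have hb1 : b ∈ relCent ⊤ ({x} : Set G) (bZ p E) := ⟨mem_top _, hbZ, fun a ha => by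
      rw [Set.mem_singleton_iff.1 ha]; exact h1⟩
    exact (zpowers_le.2 hb1 hy).2.2 x rfl
  have hb2 : b ∈ relCent ⊤ (pCoreOf p E : Set G) S1 := by
    refine ⟨mem_top _, relCent_normalized hbQ (le_normalizer (mem_zpowers b)) hbZ, fun q hq => ⟨hcm hbQ hq, hQZ (hcm hbQ hq), fun y hy => ?_⟩⟩
    rw [← commutatorElement_inv]
    exact inv_mem (hzp _ (hcm hbQ hq) (key q hq) y hy)
  have h1 : ⁅pCoreOf p E, zpowers b⁆ ≤ S1 :=
    Subgroup.commutator_le.2 fun q hq y hy => (zpowers_le.2 hb2 hy).2.2 q hq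
  refine (commutator_mono h1 le_rfl).trans (Subgroup.commutator_le.2 fun x hx y hy => ?_)
  rw [← commutatorElement_inv]
  exact inv_mem (hx.2.2 y hy)

/-- `q ↦ [q, x]` is trivial modulo `Z` for all `x`. -/
def ThetaTrivial (p : ℕ) (E : Subgroup G) : Prop :=
  ∀ x ∈ cC2 p E, ∀ q ∈ pCoreOf p E, ⁅q, x⁆ ∈ bZ p E

/-- Equivariance forces an element normalising `Q` to commute with `E` on `Q/W`. -/
theorem Hard.stab_of_theta (h : Hard p (T : Subgroup G) E) (hE : IsBaumannBlock p (T : Subgroup G) E)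
    (hne : ¬ ThetaTrivial p E) {c e : G} (hc : c ∈ cW p E)
    (hcQ : c ∈ normalizer (pCoreOf p E : Set G)) (he : e ∈ E) : ⁅e, c⁆ ∈ stab (pCoreOf p E) (bW p E) := by
  simp only [ThetaTrivial, not_forall] at hne
  obtain ⟨a, ha, q0, hq0, hne0⟩ := hne
  have hnea : ∃ q ∈ pCoreOf p E, ⁅q, a⁆ ∉ bZ p E := ⟨q0, hq0, hne0⟩
  set a' := c * a * c⁻¹ with ha'
  have hcZ : c ∈ normalizer (bZ p E : Set G) := by
    rw [← h.exc.derived]; exact CfsgLib.Solvable.normalizer_le_normalizer_commutator _ _ ⟨hcQ, hcQ⟩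
  have hcW2 : c ∈ normalizer (bW p E : Set G) := CfsgLib.LocalEven.Oz.normalizer_le _ hcQ
  have ha'C : a' ∈ cC2 p E := ⟨mul_mem (mul_mem hc ha.1) ((cW p E).inv_mem hc),
    (mem_normalizer_iff.1 (relCent_normalized (le_normalizer hcQ) hcQ hcW2) a).1 ha.2⟩
  have hEQ := CfsgLib.LocalEven.le_normalizer_pCoreOf p E
  have hce : ⁅e, c⁆ ∈ normalizer (pCoreOf p E : Set G) := by
    rw [commutatorElement_def]
    exact mul_mem (mul_mem (mul_mem (hEQ he) hcQ) (inv_mem (hEQ he))) (inv_mem hcQ)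
  suffices key : ∀ e ∈ E, ∀ r ∈ pCoreOf p E, ⁅e⁻¹, c⁆ * r * ⁅e⁻¹, c⁆⁻¹ * r⁻¹ ∈ bW p E by
    refine mem_stab_of_le (bW_le_core E) hce fun r hr => ?_
    have h1 := inv_mem (key _ (inv_mem he) r hr)
    rw [inv_inv] at h1
    rwa [show ⁅r, ⁅e, c⁆⁆ = (⁅e, c⁆ * r * ⁅e, c⁆⁻¹ * r⁻¹)⁻¹ by rw [commutatorElement_def r]; group]
  clear he hce e
  intro e he r hr
  -- `Z`-congruences
  let π : ↥(normalizer (bZ p E : Set G)) →* _ := QuotientGroup.mk' ((bZ p E).subgroupOf (normalizer (bZ p E : Set G)))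
  have hWZ : bW p E ≤ normalizer (bZ p E : Set G) := (bW_le E).trans (le_normalizer_bZ E)
  have hfix : ∀ w ∈ bW p E, c * w * c⁻¹ * w⁻¹ ∈ bZ p E := by
    intro w hw
    rw [← bWE_sup hE] at hw
    obtain ⟨w1, hw1, z, hz, rfl⟩ := exists_mul_of_sup (bWE_le E) hw
    have h1 : c * w1 * c⁻¹ = w1 := by rw [← mem_centralizer_iff.1 hc w1 hw1, mul_inv_cancel_right]
    rw [show c * (w1 * z) * c⁻¹ * (w1 * z)⁻¹ = (c * w1 * c⁻¹) * ((c * z * c⁻¹) * z⁻¹) * w1⁻¹ by group, h1]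
    exact Baumann.conj_mem_of_le_normalizer hWZ (bWE_le E hw1)
      (mul_mem ((mem_normalizer_iff.1 hcZ z).1 hz) (inv_mem hz))
  -- a pair of elements with the same image under `[-, a]`
  set s := c⁻¹ * r * c with hs
  have hsQ : s ∈ pCoreOf p E := (mem_normalizer_iff''.1 hcQ r).1 hr
  have hrs : c * s * c⁻¹ = r := by rw [hs]; group
  set u := c⁻¹ * (e * r * e⁻¹) * c with hu
  have her : e * r * e⁻¹ ∈ pCoreOf p E := Baumann.conj_mem_of_le_normalizer hEQ he hr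
  have huQ : u ∈ pCoreOf p E := (mem_normalizer_iff''.1 hcQ _).1 her
  have hsa : ⁅s, a⁆ ∈ bW p E := ha.2.2.2 s hsQ
  obtain ⟨z1, hz1, e1⟩ := h.equivariant hE ha'C he hr
  obtain ⟨z2, hz2, e2⟩ := h.equivariant hE ha he hsQ
  have f1 : c * ⁅u, a⁆ * c⁻¹ = ⁅e * r * e⁻¹, a'⁆ := by
    rw [hu, ha']; simp only [commutatorElement_def]; group
  have f2 : ⁅r, a'⁆ = c * ⁅s, a⁆ * c⁻¹ := by
    rw [ha', ← hrs]; simp only [commutatorElement_def]; group
  obtain ⟨z3, hz3, e3⟩ : ∃ z ∈ bZ p E, c * ⁅s, a⁆ * c⁻¹ = z * ⁅s, a⁆ := ⟨_, hfix _ hsa, by group⟩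
  obtain ⟨z4, hz4, e4⟩ : ∃ z ∈ bZ p E, c * ⁅u, a⁆ * c⁻¹ = z * ⁅u, a⁆ :=
    ⟨_, hfix _ (ha.2.2.2 u huQ), by group⟩
  have hd : ⁅u, a⁆ * (⁅e * s * e⁻¹, a⁆)⁻¹ ∈ bZ p E := by
    have h5 : ⁅u, a⁆ = z4⁻¹ * (e * z3 * e⁻¹) * (e * ⁅s, a⁆ * e⁻¹) * z1 := by
      rw [eq_comm, mul_assoc, mul_assoc, inv_mul_eq_iff_eq_mul, ← e4, f1, e1, f2, e3]; group
    rw [h5, e2]
    have hw : e * ⁅s, a⁆ * e⁻¹ ∈ bW p E := Baumann.conj_mem_of_le_normalizer (le_normalizer_bW E) he hsa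
    have hw1 : z1 * z2⁻¹ ∈ bZ p E := mul_mem hz1 (inv_mem hz2)
    rw [show z4⁻¹ * (e * z3 * e⁻¹) * (e * ⁅s, a⁆ * e⁻¹) * z1 * (e * ⁅s, a⁆ * e⁻¹ * z2)⁻¹ =
      z4⁻¹ * (e * z3 * e⁻¹) * ((e * ⁅s, a⁆ * e⁻¹) * (z1 * z2⁻¹) * (e * ⁅s, a⁆ * e⁻¹)⁻¹) by group]
    exact mul_mem (mul_mem (inv_mem hz4) (Baumann.conj_mem_of_le_normalizer (le_normalizer_bZ E) he hz3))
      (Baumann.conj_mem_of_le_normalizer hWZ hw hw1)
  have hes : e * s * e⁻¹ ∈ pCoreOf p E := Baumann.conj_mem_of_le_normalizer hEQ he hsQ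
  have hd2 : u * (e * s * e⁻¹)⁻¹ ∈ bW p E := by
    refine h.theta_inj hE ha hnea (mul_mem huQ (inv_mem hes)) ?_
    have hW1 : ⁅(e * s * e⁻¹)⁻¹, a⁆ ∈ bW p E := ha.2.2.2 _ (inv_mem hes)
    rw [show ⁅u * (e * s * e⁻¹)⁻¹, a⁆ = u * ⁅(e * s * e⁻¹)⁻¹, a⁆ * u⁻¹ * ⁅u, a⁆ by
      simp only [commutatorElement_def]; group, core_comm huQ hW1, mul_inv_cancel_right]
    have h6 : ⁅(e * s * e⁻¹)⁻¹, a⁆ = ⁅e * s * e⁻¹, a⁆⁻¹ := by
      have h7 : ⁅e * s * e⁻¹, a⁆⁻¹ ∈ bW p E := inv_mem (ha.2.2.2 _ hes)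
      rw [show ⁅(e * s * e⁻¹)⁻¹, a⁆ = (e * s * e⁻¹)⁻¹ * ⁅e * s * e⁻¹, a⁆⁻¹ * (e * s * e⁻¹) by
        simp only [commutatorElement_def]; group, mul_assoc, ← core_comm hes h7, ← mul_assoc, inv_mul_cancel,
        one_mul]
    rw [h6, bW_comm (inv_mem (ha.2.2.2 _ hes)) (ha.2.2.2 _ huQ)]
    exact hd
  -- translate back
  have hx : e * u * e⁻¹ ∈ pCoreOf p E := Baumann.conj_mem_of_le_normalizer hEQ he huQ
  have h8 : (e * s * e⁻¹) * u⁻¹ ∈ bW p E := by simpa using inv_mem hd2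
  have h9 := (mem_normalizer_iff.1 hcW2 _).1 h8
  have h10 : c * (e * s * e⁻¹ * u⁻¹) * c⁻¹ = (c * e * c⁻¹) * r * (c * e * c⁻¹)⁻¹ * (e * r * e⁻¹)⁻¹ := by
    rw [hu, hs]; group
  rw [h10] at h9
  have h11 := (mem_normalizer_iff''.1 (le_normalizer_bW E he) _).1 h9
  have hg : e⁻¹ * ((c * e * c⁻¹) * r * (c * e * c⁻¹)⁻¹ * (e * r * e⁻¹)⁻¹) * e =
      ⁅e⁻¹, c⁆ * r * ⁅e⁻¹, c⁆⁻¹ * r⁻¹ := by simp only [commutatorElement_def]; group
  rw [hg] at h11
  exact h11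

end CfsgLib.LocalEven.BlockCentral
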