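import Mathlib
import Cfsg.Agent.Lib.LocalEven.BlockCentral.NQ

/-!
`N(Q) ∩ C(W_E)` normalises the block, continued.
-/

set_option autoImplicit false

namespace CfsgLib.LocalEven.BlockCentral

open Subgroup Cfsg Matrix
open CfsgLib.LocalEven.SubBlock
open scoped Pointwise commutatorElement

variable {G : Type*} [Group G] [Finite G] {p : ℕ} [Fact p.Prime] {T : Sylow p G} {E : Subgroup G}

/-- The elements of `C(W_E)` normalising `Q` and centralising `Z`. -/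
abbrev cL (p : ℕ) (E : Subgroup G) : Subgroup G :=
  cW p E ⊓ normalizer (pCoreOf p E : Set G) ⊓ centralizer (bZ p E : Set G)

theorem Hard.normalizer_le_cL (h : Hard p (T : Subgroup G) E) {g : G} (hg : g ∈ normalizer (E : Set G)) :
    g ∈ normalizer (cL p E : Set G) :=
  Baumann.normalizer_inf_le _ _ ⟨Baumann.normalizer_inf_le _ _ ⟨normalizer_le_cW hg,
    le_normalizer (Block.normalizer_le_pCoreOf E hg)⟩,
    CfsgLib.LocalEven.Oz.mem_normalizer_centralizer (normalizer_le_bZ E hg)⟩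

theorem Hard.commutator_mem_cL (h : Hard p (T : Subgroup G) E) {c e : G} (hc : c ∈ cW p E)
    (hcQ : c ∈ normalizer (pCoreOf p E : Set G)) (he : e ∈ E) : ⁅e, c⁆ ∈ cL p E := by
  have hEQ := CfsgLib.LocalEven.le_normalizer_pCoreOf p E
  have hcZ : c ∈ normalizer (bZ p E : Set G) := by
    rw [← h.exc.derived]; exact CfsgLib.Solvable.normalizer_le_normalizer_commutator _ _ ⟨hcQ, hcQ⟩
  refine ⟨⟨?_, ?_⟩, mem_centralizer_iff.2 fun z hz => ?_⟩
  · rw [commutatorElement_def]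
    exact mul_mem ((mem_normalizer_iff.1 (normalizer_le_cW (le_normalizer he)) c).1 hc) ((cW p E).inv_mem hc)
  · rw [commutatorElement_def]
    exact mul_mem (mul_mem (mul_mem (hEQ he) hcQ) ((normalizer (pCoreOf p E : Set G)).inv_mem (hEQ he)))
      ((normalizer (pCoreOf p E : Set G)).inv_mem hcQ)
  · have h1 : c⁻¹ * z * c ∈ bZ p E := (mem_normalizer_iff''.1 hcZ z).1 hz
    have h2 : e⁻¹ * (c⁻¹ * z * c) * e = c⁻¹ * z * c := by
      rw [mul_assoc, ← mem_centralizer_iff.1 h1.2 e he, ← mul_assoc, inv_mul_cancel, one_mul]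
    have h3 : e * z * e⁻¹ = z := by rw [mem_centralizer_iff.1 hz.2 e he, mul_inv_cancel_right]
    calc z * ⁅e, c⁆ = ⁅e, c⁆ * (c * e * (c⁻¹ * (e⁻¹ * z * e) * c) * e⁻¹ * c⁻¹) := by
          simp only [commutatorElement_def]; group
      _ = _ := by
          rw [show e⁻¹ * z * e = z by
            rw [mul_assoc, ← mem_centralizer_iff.1 hz.2 e he, ← mul_assoc, inv_mul_cancel, one_mul]]
          congr 1
          have h4 : e * (c⁻¹ * z * c) * e⁻¹ = c⁻¹ * z * c := by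
            rw [mem_centralizer_iff.1 h1.2 e he, mul_inv_cancel_right]
          calc c * e * (c⁻¹ * z * c) * e⁻¹ * c⁻¹ = c * (e * (c⁻¹ * z * c) * e⁻¹) * c⁻¹ := by group
            _ = z := by rw [h4]; group

variable {F : Type} [Field F] [Fintype F] {n : ℕ}

open scoped IsMulCommutative in
/-- Elements of `cL` act on `Q/W` as elements of `SL₂`. -/
theorem Hard.exists_sl (h : Hard p (T : Subgroup G) E) (hn : Fintype.card F = 3 ^ n)
    (hZn : Nat.card ↥(bZ p E) = 3 ^ n) (R : Rep p F E (pCoreOf p E) (bW p E)) {x : G} (hx : x ∈ cL p E) :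
    ∃ M : Matrix.SpecialLinearGroup (Fin 2) F, ∀ q ∈ pCoreOf p E, R.vec (x * q * x⁻¹) = Lin.act M (R.vec q) := by
  classical
  letI : CommGroup ↥(bZ p E) :=
    { (inferInstance : Group ↥(bZ p E)) with
      mul_comm := fun a b => Subtype.ext (bW_comm a.2.1 b.2.1) }
  choose s hs hsv using R.vec_surj
  let f : (Fin 2 → F) → (Fin 2 → F) → ↥(bZ p E) := fun u v =>
    ⟨⁅s u, s v⁆, h.exc.derived.le (commutator_mem_commutator (hs u) (hs v))⟩
  have hcen : ∀ {a b}, a ∈ pCoreOf p E → b ∈ bW p E → ⁅a, b⁆ = 1 ∧ ⁅b, a⁆ = 1 := fun ha hb =>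
    ⟨commutatorElement_eq_one_iff_mul_comm.2 (core_comm ha hb),
      commutatorElement_eq_one_iff_mul_comm.2 (core_comm ha hb).symm⟩
  have hQc : ∀ {a b c}, a ∈ pCoreOf p E → b ∈ pCoreOf p E → c ∈ pCoreOf p E → c * ⁅a, b⁆ * c⁻¹ = ⁅a, b⁆ :=
    fun ha hb hc => by
      rw [core_comm hc (h.exc.derived.le (commutator_mem_commutator ha hb)).1, mul_inv_cancel_right]
  have hbilL : ∀ {a a' b}, a ∈ pCoreOf p E → a' ∈ pCoreOf p E → b ∈ pCoreOf p E →
      ⁅a * a', b⁆ = ⁅a, b⁆ * ⁅a', b⁆ := fun {a a' b} ha ha' hb => by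
    rw [show ⁅a * a', b⁆ = (a * ⁅a', b⁆ * a⁻¹) * ⁅a, b⁆ by simp only [commutatorElement_def]; group, hQc ha' hb ha,
      bW_comm (h.exc.derived.le (commutator_mem_commutator ha' hb)).1
        (h.exc.derived.le (commutator_mem_commutator ha hb)).1]
  have hbilR : ∀ {a b b'}, a ∈ pCoreOf p E → b ∈ pCoreOf p E → b' ∈ pCoreOf p E →
      ⁅a, b * b'⁆ = ⁅a, b⁆ * ⁅a, b'⁆ := fun {a b b'} ha hb hb' => by
    rw [show ⁅a, b * b'⁆ = ⁅a, b⁆ * (b * ⁅a, b'⁆ * b⁻¹) by simp only [commutatorElement_def]; group, hQc ha hb' hb]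
  have key : ∀ a ∈ pCoreOf p E, ∀ b ∈ pCoreOf p E, (f (R.vec a) (R.vec b) : G) = ⁅a, b⁆ := by
    intro a ha b hb
    show ⁅s (R.vec a), s (R.vec b)⁆ = ⁅a, b⁆
    have hm : ∀ {u}, u ∈ pCoreOf p E → u⁻¹ * s (R.vec u) ∈ bW p E := fun {u} hu => by
      refine (R.vec_eq_zero _ (mul_mem (inv_mem hu) (hs _))).1 ?_
      rw [R.vec_mul _ (inv_mem hu) _ (hs _), hsv, R.vec_inv hu, neg_add_cancel]
    conv_lhs => rw [show s (R.vec a) = a * (a⁻¹ * s (R.vec a)) by group,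
      show s (R.vec b) = b * (b⁻¹ * s (R.vec b)) by group]
    rw [hbilL ha (bW_le_core E (hm ha)) (mul_mem hb (bW_le_core E (hm hb))),
      (hcen (mul_mem hb (bW_le_core E (hm hb))) (hm ha)).2, mul_one,
      hbilR ha hb (bW_le_core E (hm hb)), (hcen ha (hm hb)).1, mul_one]
  have hl : ∀ u u' v, f (u + u') v = f u v * f u' v := fun u u' v => Subtype.ext (by
    conv_lhs => rw [← hsv u, ← hsv u', ← R.vec_mul _ (hs u) _ (hs u'), ← hsv v]
    rw [key _ (mul_mem (hs u) (hs u')) _ (hs v), hbilL (hs u) (hs u') (hs v)]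
    rfl)
  have hr : ∀ u v v', f u (v + v') = f u v * f u v' := fun u v v' => Subtype.ext (by
    conv_lhs => rw [← hsv v, ← hsv v', ← R.vec_mul _ (hs v) _ (hs v'), ← hsv u]
    rw [key _ (hs u) _ (mul_mem (hs v) (hs v')), hbilR (hs u) (hs v) (hs v')]
    rfl)
  have hinv : ∀ {g : G}, g ∈ normalizer (pCoreOf p E : Set G) → (∀ z ∈ bZ p E, g * z * g⁻¹ = z) →
      ∀ a ∈ pCoreOf p E, ∀ b ∈ pCoreOf p E, f (R.vec (g * a * g⁻¹)) (R.vec (g * b * g⁻¹)) = f (R.vec a) (R.vec b) :=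
    fun {g} hg hz a ha b hb => Subtype.ext (by
      rw [key _ ((mem_normalizer_iff.1 hg a).1 ha) _ ((mem_normalizer_iff.1 hg b).1 hb), key a ha b hb]
      rw [show ⁅g * a * g⁻¹, g * b * g⁻¹⁆ = g * ⁅a, b⁆ * g⁻¹ by simp only [commutatorElement_def]; group,
        hz _ (h.exc.derived.le (commutator_mem_commutator ha hb))])
  have hR : ∀ r ∈ commutator (Matrix.SpecialLinearGroup (Fin 2) F), ∀ u v, f (Lin.act r u) (Lin.act r v) = f u v := by
    intro r hr u v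
    obtain ⟨e, he, rfl⟩ := R.rho_surj r hr
    conv_lhs => rw [← hsv u, ← hsv v, ← R.vec_conj e he _ (hs u), ← R.vec_conj e he _ (hs v)]
    rw [hinv (CfsgLib.LocalEven.le_normalizer_pCoreOf p E he)
      (fun z hz => by rw [mem_centralizer_iff.1 hz.2 e he, mul_inv_cancel_right]) _ (hs u) _ (hs v), hsv, hsv]
  have hdet := Lin.form_det hn f hl (fun v => Subtype.ext (by
    show ⁅s v, s v⁆ = _; simp)) hr hR
  let g : Multiplicative F →* ↥(bZ p E) := MonoidHom.mk'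
    (fun c => f ![1, 0] ![0, Multiplicative.toAdd c]) fun a b => by
      rw [← hr, toAdd_mul]; congr 1; ext i; fin_cases i <;> simp
  have hsurj : Function.Surjective g := by
    have h1 : ⁅pCoreOf p E, pCoreOf p E⁆ ≤ g.range.map (bZ p E).subtype := by
      rw [commutator_le]
      intro a ha b hb
      exact ⟨g (Multiplicative.ofAdd (R.vec a 0 * R.vec b 1 - R.vec a 1 * R.vec b 0)), ⟨_, rfl⟩, by
        show (f ![1, 0] ![0, R.vec a 0 * R.vec b 1 - R.vec a 1 * R.vec b 0] : G) = ⁅a, b⁆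
        rw [← hdet, key a ha b hb]⟩
    intro z
    obtain ⟨y, ⟨c, rfl⟩, hy⟩ := h1 (h.exc.derived.ge z.2)
    exact ⟨c, Subtype.ext hy⟩
  have hinj : Function.Injective g := by
    have hc : Nat.card (Multiplicative F) = Nat.card ↥(bZ p E) := by
      rw [hZn, Nat.card_congr Multiplicative.toAdd, Nat.card_eq_fintype_card, hn]
    exact (Function.Surjective.bijective_of_nat_card_le hsurj hc.le).1
  obtain ⟨χ, hχ⟩ := R.exists_map hx.1.2 (CfsgLib.LocalEven.Oz.normalizer_le _ hx.1.2)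
  obtain ⟨M, hM⟩ := Lin.det_linear χ fun u v => by
    obtain ⟨a, ha, rfl⟩ := R.vec_surj u
    obtain ⟨b, hb, rfl⟩ := R.vec_surj v
    have h1 : f (χ (R.vec a)) (χ (R.vec b)) = f (R.vec a) (R.vec b) := by
      rw [hχ a ha, hχ b hb]
      exact hinv hx.1.2 (fun z hz => by rw [← mem_centralizer_iff.1 hx.2 z hz, mul_inv_cancel_right]) a ha b hb
    rw [hdet, hdet (R.vec a)] at h1
    exact Multiplicative.ofAdd.injective (hinj (a₁ := Multiplicative.ofAdd _) (a₂ := Multiplicative.ofAdd _) h1)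
  exact ⟨M, fun q hq => by rw [← hχ q hq, hM]⟩

/-- An element of `C(W_E)` inverting `Q/W` gives an invariant complement. -/
theorem Hard.false_of_inverting (h : Hard p (T : Subgroup G) E) (hE : IsBaumannBlock p (T : Subgroup G) E)
    (h0 : ThetaTrivial p E) {z : G} (hz : z ∈ cW p E) (hzQ : z ∈ normalizer (pCoreOf p E : Set G))
    (hzi : ∀ q ∈ pCoreOf p E, z * q * z⁻¹ * q ∈ bW p E) : False := by
  set Q := pCoreOf p E with hQ
  have hQZ : Q ≤ normalizer (bZ p E : Set G) := (CfsgLib.LocalEven.pCoreOf_le p E).trans (le_normalizer_bZ E)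
  haveI : ((bZ p E).subgroupOf Q).Normal := normal_subgroupOf_of_le_normalizer hQZ
  have hcong : ∀ a ∈ Q, ∀ b ∈ Q, (a * b) * (b * a)⁻¹ ∈ bZ p E := fun a ha b hb => by
    rw [show (a * b) * (b * a)⁻¹ = ⁅a, b⁆ by rw [commutatorElement_def]; group]
    exact h.exc.derived.le (commutator_mem_commutator ha hb)
  have hconjQ : ∀ a ∈ Q, z * a * z⁻¹ ∈ Q := fun a ha => (mem_normalizer_iff.1 hzQ a).1 ha
  have hW : bW p E ≤ Q := bW_le_core E
  let Y : Subgroup G :=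
    { carrier := {q | q ∈ Q ∧ z * q * z⁻¹ * q ∈ bZ p E}
      one_mem' := ⟨one_mem _, by simp [one_mem]⟩
      mul_mem' := fun {a b} ha hb => ⟨mul_mem ha.1 hb.1, by
        rw [show z * (a * b) * z⁻¹ * (a * b) =
          (z * a * z⁻¹) * (((z * b * z⁻¹) * a) * (a * (z * b * z⁻¹))⁻¹) * (z * a * z⁻¹)⁻¹ *
            ((z * a * z⁻¹ * a) * (z * b * z⁻¹ * b)) by group]
        exact mul_mem (Baumann.conj_mem_of_le_normalizer hQZ (hconjQ a ha.1) (hcong _ (hconjQ b hb.1) a ha.1))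
          (mul_mem ha.2 hb.2)⟩
      inv_mem' := fun {a} ha => ⟨inv_mem ha.1, by
        have h1 := Baumann.conj_mem_of_le_normalizer hQZ ha.1 (inv_mem ha.2)
        rw [show z * a⁻¹ * z⁻¹ * a⁻¹ = (z * a⁻¹ * z⁻¹ * a⁻¹ * (a⁻¹ * (z * a⁻¹ * z⁻¹))⁻¹) *
          (a⁻¹ * (z * a⁻¹ * z⁻¹)) by group]
        refine mul_mem (hcong _ (hconjQ _ (inv_mem ha.1)) _ (inv_mem ha.1)) ?_
        rw [show a⁻¹ * (z * a⁻¹ * z⁻¹) = (z * a * z⁻¹ * a)⁻¹ by group]
        exact inv_mem ha.2⟩ }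
  have hWzi : ∀ w ∈ bW p E, z * w * z⁻¹ * w⁻¹ ∈ bZ p E := by
    intro w hw
    rw [← bWE_sup hE] at hw
    obtain ⟨w1, hw1, y, hy, rfl⟩ := exists_mul_of_sup (bWE_le E) hw
    have h1 : z * w1 * z⁻¹ = w1 := by rw [← mem_centralizer_iff.1 hz w1 hw1, mul_inv_cancel_right]
    have hzZ : z ∈ normalizer (bZ p E : Set G) := by
      rw [← h.exc.derived]; exact CfsgLib.Solvable.normalizer_le_normalizer_commutator _ _ ⟨hzQ, hzQ⟩
    rw [show z * (w1 * y) * z⁻¹ * (w1 * y)⁻¹ = (z * w1 * z⁻¹) * ((z * y * z⁻¹) * y⁻¹) * w1⁻¹ by group, h1]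
    exact Baumann.conj_mem_of_le_normalizer hQZ (hW (bWE_le E hw1))
      (mul_mem ((mem_normalizer_iff.1 hzZ y).1 hy) (inv_mem hy))
  refine h.no_complement hE Y (fun q hq => hq.1) (fun q hq => ?_) (fun w hw => ?_) (fun b hb => ?_)
  · -- `Y W = Q`
    have hz2 : z * z ∈ cC2 p E := by
      refine ⟨mul_mem hz hz, mem_stab_of_le (bW_le_core E) (mul_mem hzQ hzQ) fun a ha => ?_⟩
      have h1 := hzi a ha
      have h2 := hzi _ (hconjQ a ha)
      rw [← commutatorElement_inv]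
      refine inv_mem ?_
      rw [show ⁅z * z, a⁆ = (z * (z * a * z⁻¹) * z⁻¹ * (z * a * z⁻¹)) * ((z * a * z⁻¹)⁻¹ * a⁻¹) by
        rw [commutatorElement_def]; group]
      refine mul_mem h2 ?_
      have h3 := Baumann.conj_mem_of_le_normalizer (CfsgLib.LocalEven.pCoreOf_le p E |>.trans (le_normalizer_bW E))
        (inv_mem (hconjQ a ha)) (inv_mem h1)
      rwa [show (z * a * z⁻¹)⁻¹ * (z * a * z⁻¹ * a)⁻¹ * (z * a * z⁻¹)⁻¹⁻¹ = (z * a * z⁻¹)⁻¹ * a⁻¹ by group] at h3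
    have hy : q * (z * q * z⁻¹)⁻¹ ∈ Y := by
      refine ⟨mul_mem hq (inv_mem (hconjQ q hq)), ?_⟩
      have h4 := h0 _ hz2 q hq
      rw [show z * (q * (z * q * z⁻¹)⁻¹) * z⁻¹ * (q * (z * q * z⁻¹)⁻¹) =
        (z * q * z⁻¹) * ((z * z) * q⁻¹ * (z * z)⁻¹ * q) * (z * q * z⁻¹)⁻¹ by group]
      refine Baumann.conj_mem_of_le_normalizer hQZ (hconjQ q hq) ?_
      have h5 := Baumann.conj_mem_of_le_normalizer hQZ (inv_mem hq) h4
      rwa [show q⁻¹ * ⁅q, z * z⁆ * q⁻¹⁻¹ = (z * z) * q⁻¹ * (z * z)⁻¹ * q by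
        rw [commutatorElement_def]; group] at h5
    refine h.mem_of_sq (h.core_le_cV hE hq) ?_
    rw [show q * q = (q * (z * q * z⁻¹)⁻¹) * (z * q * z⁻¹ * q) by group]
    exact mul_mem (mem_sup_left hy) (mem_sup_right (hzi q hq))
  · -- `Y ∩ W ≤ Z`
    refine h.mem_of_sq (h.bW_le_cV hE hw.2) ?_
    have h1 := mul_mem (inv_mem (hWzi w hw.2)) hw.1.2
    rwa [show (z * w * z⁻¹ * w⁻¹)⁻¹ * (z * w * z⁻¹ * w) = w * w by group] at h1
  · -- invariance
    have hbE := Block.baumann_le_normalizer hE hb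
    have hbQ := Block.normalizer_le_pCoreOf (p := p) E hbE
    have hbZ := normalizer_le_bZ (p := p) E hbE
    have hbW := normalizer_le_bW (p := p) E hbE
    set k := b⁻¹ * z * b * z⁻¹ with hk
    have hk2 : k ∈ cC2 p E := by
      refine ⟨mul_mem ((mem_normalizer_iff''.1 (normalizer_le_cW hbE) z).1 hz) ((cW p E).inv_mem hz),
        mem_stab_of_le (bW_le_core E) (mul_mem (mul_mem (mul_mem (inv_mem hbQ) hzQ) hbQ) (inv_mem hzQ)) fun a ha => ?_⟩
      rw [← commutatorElement_inv]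
      refine inv_mem ?_
      have ha1 : z⁻¹ * a * z ∈ Q := (mem_normalizer_iff''.1 hzQ a).1 ha
      have ha2 : b * (z⁻¹ * a * z) * b⁻¹ ∈ Q := (mem_normalizer_iff.1 hbQ _).1 ha1
      have h1 := (mem_normalizer_iff''.1 hbW _).1 (hzi _ ha2)
      have h2 := hzi _ ha1
      have h3 := mul_mem h1 (inv_mem h2)
      rwa [show b⁻¹ * (z * (b * (z⁻¹ * a * z) * b⁻¹) * z⁻¹ * (b * (z⁻¹ * a * z) * b⁻¹)) * b *
        (z * (z⁻¹ * a * z) * z⁻¹ * (z⁻¹ * a * z))⁻¹ = ⁅k, a⁆ by rw [hk, commutatorElement_def]; group] at h3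
    refine CfsgLib.LocalEven.mem_normalizer_of_conj_le ?_
    rintro _ ⟨y, hy, rfl⟩
    show b * y * b⁻¹ ∈ Y
    refine ⟨(mem_normalizer_iff.1 hbQ y).1 hy.1, ?_⟩
    have hy1 : z * y * z⁻¹ ∈ Q := hconjQ y hy.1
    have h4 : ⁅z * y * z⁻¹, k⁆ ∈ bZ p E := h0 k hk2 _ hy1
    rw [show z * (b * y * b⁻¹) * z⁻¹ * (b * y * b⁻¹) =
      b * (⁅k, z * y * z⁻¹⁆ * (z * y * z⁻¹ * y)) * b⁻¹ by rw [hk, commutatorElement_def]; group]
    refine (mem_normalizer_iff.1 hbZ _).1 (mul_mem ?_ hy.2)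
    rw [← commutatorElement_inv]
    exact inv_mem h4

/-- `N(Q) ∩ C(W_E) ≤ N(E)`. -/
theorem Hard.normalizer_core_le (h : Hard p (T : Subgroup G) E) (hE : IsBaumannBlock p (T : Subgroup G) E)
    {c : G} (hc : c ∈ cW p E) (hcQ : c ∈ normalizer (pCoreOf p E : Set G)) :
    c ∈ normalizer (E : Set G) := by
  refine h.mem_normalizer_of_stab hE hc hcQ fun e he => ?_
  by_cases h0 : ThetaTrivial p E
  swap
  · exact h.stab_of_theta hE h0 hc hcQ he
  obtain ⟨F, _, _, n, hn, hZn, -, ⟨R⟩⟩ := h.exists_reps hE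
  have hEQ := CfsgLib.LocalEven.le_normalizer_pCoreOf p E
  let S : Subgroup (Matrix.SpecialLinearGroup (Fin 2) F) :=
    { carrier := {M | ∃ x ∈ cL p E, ∀ q ∈ pCoreOf p E, R.vec (x * q * x⁻¹) = Lin.act M (R.vec q)}
      one_mem' := ⟨1, one_mem _, fun q _ => by simp [Lin.act]⟩
      mul_mem' := fun {M N} ⟨x, hx, hxM⟩ ⟨y, hy, hyN⟩ => ⟨x * y, mul_mem hx hy, fun q hq => by
        rw [show x * y * q * (x * y)⁻¹ = x * (y * q * y⁻¹) * x⁻¹ by group,
          hxM _ ((mem_normalizer_iff.1 hy.1.2 q).1 hq), hyN q hq, Lin.act_mul]⟩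
      inv_mem' := fun {M} ⟨x, hx, hxM⟩ => ⟨x⁻¹, inv_mem hx, fun q hq => by
        have hq' : x⁻¹ * q * x⁻¹⁻¹ ∈ pCoreOf p E := (mem_normalizer_iff.1 (inv_mem hx.1.2) q).1 hq
        have h1 := hxM _ hq'
        rw [show x * (x⁻¹ * q * x⁻¹⁻¹) * x⁻¹ = q by group] at h1
        rw [h1, ← Lin.act_mul, inv_mul_cancel]
        simp [Lin.act]⟩ }
  have hSn : ∀ r ∈ commutator (Matrix.SpecialLinearGroup (Fin 2) F), ∀ M ∈ S, r * M * r⁻¹ ∈ S := by
    rintro r hr M ⟨x, hx, hxM⟩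
    obtain ⟨a, ha, rfl⟩ := R.rho_surj r hr
    refine ⟨a * x * a⁻¹, (mem_normalizer_iff.1 (h.normalizer_le_cL (le_normalizer ha)) x).1 hx, fun q hq => ?_⟩
    have hq1 : a⁻¹ * q * a⁻¹⁻¹ ∈ pCoreOf p E := Baumann.conj_mem_of_le_normalizer hEQ (inv_mem ha) hq
    rw [show a * x * a⁻¹ * q * (a * x * a⁻¹)⁻¹ = a * (x * (a⁻¹ * q * a⁻¹⁻¹) * x⁻¹) * a⁻¹ by group,
      R.vec_conj a ha _ ((mem_normalizer_iff.1 hx.1.2 _).1 hq1), hxM _ hq1, R.vec_conj _ (inv_mem ha) q hq,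
      R.rho_inv ha, ← Lin.act_mul, ← Lin.act_mul, mul_assoc]
  have htriv : ∀ M ∈ S, M ∈ commutator (Matrix.SpecialLinearGroup (Fin 2) F) → M = 1 := by
    intro M hM hMR
    by_contra hM1
    obtain ⟨⟨z, hz, hzM⟩, -⟩ : (-1 : Matrix.SpecialLinearGroup (Fin 2) F) ∈
        S ⊓ commutator (Matrix.SpecialLinearGroup (Fin 2) F) :=
      Lin.neg_one_mem_of_normal hn inf_le_right
        (fun r hr m hm => ⟨hSn r hr m hm.1, mul_mem (mul_mem hr hm.2) ((commutator (Matrix.SpecialLinearGroup (Fin 2) F)).inv_mem hr)⟩) ⟨hM, hMR⟩ hM1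
    refine h.false_of_inverting hE h0 hz.1.1 hz.1.2 fun q hq => ?_
    refine (R.vec_eq_zero _ (mul_mem ((mem_normalizer_iff.1 hz.1.2 q).1 hq) hq)).1 ?_
    rw [R.vec_mul _ ((mem_normalizer_iff.1 hz.1.2 q).1 hq) _ hq, hzM q hq]
    simp [Lin.act, Matrix.neg_mulVec]
  obtain ⟨M, hM⟩ := h.exists_sl hn hZn R (h.commutator_mem_cL hc hcQ he)
  have hMS : M ∈ S := ⟨_, h.commutator_mem_cL hc hcQ he, hM⟩
  have hM1 : M = 1 := by
    have hcomm : ∀ r ∈ commutator (Matrix.SpecialLinearGroup (Fin 2) F), M * r = r * M := by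
      intro r hr
      have h1 : ⁅M, r⁆ = 1 := htriv _ (by
        rw [commutatorElement_def, mul_assoc M r, mul_assoc M]
        exact mul_mem hMS (hSn r hr _ (inv_mem hMS))) (commutator_mem_commutator (mem_top _) (mem_top _))
      exact commutatorElement_eq_one_iff_mul_comm.1 h1
    rcases Lin.scalar_of_comm hn (M := M) hcomm with h1 | h1
    · exact h1
    · exact htriv M hMS (h1 ▸ Lin.neg_one_mem hn)
  have hxn := (h.commutator_mem_cL hc hcQ he).1.2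
  refine mem_stab_of_le (bW_le_core E) hxn fun q hq => ?_
  rw [← commutatorElement_inv]
  refine inv_mem ?_
  rw [commutatorElement_def, ← R.vec_eq_iff ((mem_normalizer_iff.1 hxn q).1 hq) hq, hM q hq, hM1]
  simp [Lin.act]

end CfsgLib.LocalEven.BlockCentral
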