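import Mathlib
import Cfsg.Agent.Lib.LocalEven.BlockCentral.NQTrivial

/-!
The involution of the block centralises the `p'`-subgroups of `C(W_E)/O_p`.
-/

set_option autoImplicit false

namespace CfsgLib.LocalEven.BlockCentral

open Subgroup Cfsg Matrix
open CfsgLib.LocalEven.SubBlock
open scoped Pointwise commutatorElement

variable {G : Type*} [Group G] [Finite G] {p : ℕ} [Fact p.Prime] {T : Sylow p G} {E : Subgroup G} {t : G}

/-- The data of a `p'`-section above `O_p(C(W_E))`. -/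
structure Sec (p : ℕ) (E Fs : Subgroup G) : Prop where
  le : cV p E ≤ Fs
  le_cW : Fs ≤ cW p E
  normal : normalizer (E : Set G) ≤ normalizer (Fs : Set G)
  cop : ((cV p E).relIndex Fs).Coprime p
  odd : Odd ((cV p E).relIndex Fs)

theorem Sec.le_normalizer_cV {Fs : Subgroup G} (hF : Sec p E Fs) : Fs ≤ normalizer (cV p E : Set G) :=
  hF.le_cW.trans (le_normalizer.trans cW_le_normalizer_cV)

/-- `C_V(t)` centralises `Q` when `V` acts trivially on `Q/Z`. -/
theorem Hard.centralizes_core (h : Hard p (T : Subgroup G) E) (hE : IsBaumannBlock p (T : Subgroup G) E)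
    (ht : Inv p E t) (h0 : ∀ v ∈ cV p E, ∀ q ∈ pCoreOf p E, ⁅q, v⁆ ∈ bZ p E) {v : G} (hv : v ∈ cV p E)
    (hvt : t * v = v * t) {q : G} (hq : q ∈ pCoreOf p E) : q * v = v * q := by
  have h1 : pCoreOf p E ≤ centralizer ({v} : Set G) := by
    rw [h.core_eq_closure hE ht, closure_le]
    rintro x ⟨u, hu, rfl⟩
    have hxQ : u * t * u⁻¹ * t ∈ pCoreOf p E := by
      have h1 := commutator_cV_le hE (commutator_mem_commutator hu ht.mem)
      rwa [commutatorElement_def, ht.inv_eq] at h1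
    set x := u * t * u⁻¹ * t with hx
    have hxt : t * x * t = x⁻¹ := by
      rw [hx, show t * (u * t * u⁻¹ * t) * t = t * u * t * u⁻¹ * (t * t) by group, ht.sq, mul_one]
      simp [_root_.mul_inv_rev, ht.inv_eq, mul_assoc]
    have hz : ⁅x, v⁆ ∈ bZ p E := h0 v hv x hxQ
    have hvt' : t * v * t = v := by rw [hvt, mul_assoc, ht.sq, mul_one]
    have e1 : ⁅x, v⁆ = ⁅x⁻¹, v⁆ := by
      conv_lhs => rw [← ht.centralizes_bZ hz]
      rw [← hxt]
      conv_rhs => rw [← hvt']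
      rw [commutatorElement_def, commutatorElement_def]
      simp only [_root_.mul_inv_rev, ht.inv_eq, mul_assoc]
      simp [← mul_assoc, ht.sq]
    have e2 : ⁅x⁻¹, v⁆ = ⁅x, v⁆⁻¹ := by
      have h7 : ⁅x, v⁆⁻¹ ∈ bW p E := inv_mem hz.1
      rw [show ⁅x⁻¹, v⁆ = x⁻¹ * ⁅x, v⁆⁻¹ * x by simp only [commutatorElement_def]; group, mul_assoc,
        ← core_comm hxQ h7, ← mul_assoc, inv_mul_cancel, one_mul]
    have e3 := h.eq_one_of_sq (h.bW_le_cV hE hz.1) (by
      nth_rewrite 2 [e1]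
      rw [e2, mul_inv_cancel])
    exact mem_centralizer_iff.2 fun y hy => by
      rw [Set.mem_singleton_iff.1 hy]; exact (commutatorElement_eq_one_iff_mul_comm.1 e3).symm
  exact (mem_centralizer_iff.1 (h1 hq) v rfl).symm

/-- `C_V(t)` centralises the block when `V` acts trivially on `Q/Z`. -/
theorem Hard.centralizes_block (h : Hard p (T : Subgroup G) E) (hE : IsBaumannBlock p (T : Subgroup G) E)
    (ht : Inv p E t) (h0 : ∀ v ∈ cV p E, ∀ q ∈ pCoreOf p E, ⁅q, v⁆ ∈ bZ p E) {v : G} (hv : v ∈ cV p E)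
    (hvt : t * v = v * t) : v ∈ centralizer (E : Set G) := by
  set V0 := cV p E ⊓ centralizer ({t} : Set G) with hV0
  have hle : ⁅V0, E⁆ ≤ bZ p E := by
    rw [commutator_le]
    intro u hu e he
    have hut : t * u = u * t := mem_centralizer_iff.1 hu.2 t rfl
    have hx : ⁅u, e⁆ ∈ pCoreOf p E := commutator_cV_le hE (commutator_mem_commutator hu.1 he)
    set r := ⁅t, e⁆ with hr
    have hrQ : r ∈ pCoreOf p E := by
      rw [hr, ← commutatorElement_inv]; exact inv_mem (ht.central e he)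
    have hur : r * u = u * r := h.centralizes_core hE ht h0 hu.1 hut hrQ
    have e1 : t * ⁅u, e⁆ * t = ⁅r, ⁅u, e⁆⁆ * ⁅u, e⁆ := by
      have e2 : t * ⁅u, e⁆ * t = ⁅u, r * e⁆ := by
        rw [show r * e = t * e * t⁻¹ by rw [hr, commutatorElement_def]; group, ht.inv_eq]
        have hut' : t * u * t = u := by rw [hut, mul_assoc, ht.sq, mul_one]
        conv_rhs => rw [← hut']
        rw [commutatorElement_def, commutatorElement_def]
        simp only [_root_.mul_inv_rev, ht.inv_eq, mul_assoc]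
        simp [← mul_assoc, ht.sq]
      rw [e2, show ⁅u, r * e⁆ = ⁅u, r⁆ * (r * ⁅u, e⁆ * r⁻¹) by simp only [commutatorElement_def]; group,
        commutatorElement_eq_one_iff_mul_comm.2 hur.symm, one_mul, conj_eq_comm_mul]
    have hW : ⁅u, e⁆ ∈ bW p E := by
      refine h.mem_of_sq (h.core_le_cV hE hx) ?_
      have h1 := ht.invQ _ hx
      rw [e1] at h1
      have h2 : ⁅r, ⁅u, e⁆⁆ ∈ bW p E :=
        inf_le_left (b := centralizer (E : Set G)) (h.exc.derived.le (commutator_mem_commutator hrQ hx))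
      have h3 := mul_mem (inv_mem h2) h1
      rwa [← mul_assoc, inv_mul_cancel_left] at h3
    refine h.mem_bZ_of_fixed hE ht hx ?_
    rw [e1, commutatorElement_eq_one_iff_mul_comm.2 (core_comm hrQ hW), one_mul]
  have h2 : ⁅V0, E⁆ = ⊥ := commutator_eq_bot_of_coprime ((isPGroup_bW E).to_le inf_le_left) hE.1 hle
    (commutator_eq_bot_iff_le_centralizer.2 inf_le_right)
  exact commutator_eq_bot_iff_le_centralizer.1 h2
    ⟨hv, mem_centralizer_iff.2 fun y hy => by rw [Set.mem_singleton_iff.1 hy]; exact hvt⟩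

/-- The case where `V` is trivial on `Q/Z`: the section normalises the block. -/
theorem Hard.sec_le_normalizer (h : Hard p (T : Subgroup G) E) (hE : IsBaumannBlock p (T : Subgroup G) E)
    (ht : Inv p E t) (h0 : ∀ v ∈ cV p E, ∀ q ∈ pCoreOf p E, ⁅q, v⁆ ∈ bZ p E) {Fs : Subgroup G}
    (hF : Sec p E Fs) : Fs ≤ normalizer (E : Set G) := by
  classical
  set V := cV p E with hV
  set Q := pCoreOf p E with hQ
  -- commutators of `V` are centralised by `E`
  have hVV : ⁅V, V⁆ ≤ centralizer (E : Set G) := by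
    rw [commutator_le]
    intro a ha b hb
    obtain ⟨q, hq, a0, ha0, rfl, hat⟩ := h.split hE ht ha
    obtain ⟨q', hq', b0, hb0, rfl, hbt⟩ := h.split hE ht hb
    have hac := h.centralizes_block hE ht h0 ha0 hat
    have hbc := h.centralizes_block hE ht h0 hb0 hbt
    have c1 : a0 * q' = q' * a0 := (h.centralizes_core hE ht h0 ha0 hat hq').symm
    have c2 : b0 * q = q * b0 := (h.centralizes_core hE ht h0 hb0 hbt hq).symm
    have f1 : (q * a0) * (q' * b0) = (q * q') * (a0 * b0) := by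
      rw [mul_assoc, ← mul_assoc a0, c1, mul_assoc, mul_assoc]
    have f2 : (q' * b0) * (q * a0) = (q' * q) * (b0 * a0) := by
      rw [mul_assoc, ← mul_assoc b0, c2, mul_assoc, mul_assoc]
    rw [commutatorElement_def, show q * a0 * (q' * b0) * (q * a0)⁻¹ * (q' * b0)⁻¹ =
      (q * a0 * (q' * b0)) * ((q' * b0) * (q * a0))⁻¹ by group, f1, f2,
      show q * q' * (a0 * b0) * (q' * q * (b0 * a0))⁻¹ = q * q' * ⁅a0, b0⁆ * (q' * q)⁻¹ by
        rw [commutatorElement_def]; group]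
    have h1 : ⁅a0, b0⁆ * (q' * q)⁻¹ = (q' * q)⁻¹ * ⁅a0, b0⁆ := by
      have k1 : Commute a0 (q' * q) :=
        Commute.mul_right c1 (h.centralizes_core hE ht h0 ha0 hat hq).symm
      have k2 : Commute b0 (q' * q) :=
        Commute.mul_right (h.centralizes_core hE ht h0 hb0 hbt hq').symm c2
      exact (((k1.mul_left k2).mul_left k1.inv_left).mul_left k2.inv_left).inv_right
    rw [mul_assoc _ ⁅a0, b0⁆, h1, ← mul_assoc,
      show q * q' * (q' * q)⁻¹ = ⁅q, q'⁆ by rw [commutatorElement_def]; group]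
    refine mul_mem (h.exc.derived.le (commutator_mem_commutator hq hq')).2 ?_
    rw [commutatorElement_def]
    exact mul_mem (mul_mem (mul_mem hac hbc) (inv_mem hac)) (inv_mem hbc)
  -- a complement
  haveI : (V.subgroupOf Fs).Normal := normal_subgroupOf_of_le_normalizer hF.le_normalizer_cV
  have hcop : Nat.Coprime (Nat.card ↥(V.subgroupOf Fs)) (V.subgroupOf Fs).index := by
    obtain ⟨k, hk⟩ := IsPGroup.iff_card.1 (isPGroup_cV (p := p) (E := E))
    rw [Nat.card_congr (subgroupOfEquivOfLe hF.le).toEquiv, hk]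
    exact (hF.cop.symm.pow_left k)
  obtain ⟨P0, hP0⟩ := exists_right_complement'_of_coprime hcop
  set P := P0.map Fs.subtype with hP
  have hPF : P ≤ Fs := map_subtype_le _
  have hsup : Fs ≤ V ⊔ P := by
    conv_lhs => rw [← Fs.range_subtype, MonoidHom.range_eq_map, ← hP0.sup_eq_top, Subgroup.map_sup,
      map_subgroupOf_eq_of_le hF.le]
  have hPc : (Nat.card ↥P).Coprime p := by
    have h1 : Nat.card ↥P = (cV p E).relIndex Fs := by
      rw [hP, card_map_of_injective Fs.subtype_injective, relIndex, hP0.symm.index_eq_card]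
    rw [h1]; exact hF.cop
  set D := ⁅V, Fs⁆ with hD
  have hDV : D ≤ V := CfsgLib.Solvable.commutator_le_of_le_normalizer hF.le_normalizer_cV
  have hDn : normalizer (E : Set G) ≤ normalizer (D : Set G) := fun g hg =>
    CfsgLib.Solvable.normalizer_le_normalizer_commutator _ _ ⟨normalizer_le_cV hg, hF.normal hg⟩
  have hVD : V ≤ normalizer (D : Set G) := CfsgLib.Solvable.le_normalizer_commutator_left _ _
  have hFD : Fs ≤ normalizer (D : Set G) :=
    CfsgLib.Solvable.le_normalizer_commutator_right hF.le_normalizer_cV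
  have hPV : P ≤ normalizer (V : Set G) := hPF.trans hF.le_normalizer_cV
  have hDsup : D ≤ ⁅V, P⁆ ⊔ ⁅V, V⁆ := by
    refine (commutator_mono le_rfl hsup).trans (commutator_sup_le le_sup_right le_sup_left ?_ ?_)
    · intro x hx
      exact CfsgLib.LocalEven.mem_normalizer_of_conj_le (le_of_eq_of_le (Subgroup.map_sup _ _ _)
        (sup_le_sup (mem_normalizer_iff_map_conj_eq.1 (CfsgLib.Solvable.le_normalizer_commutator_left _ _ hx)).le
          (mem_normalizer_iff_map_conj_eq.1 (CfsgLib.Solvable.le_normalizer_commutator_left _ _ hx)).le))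
    · intro x hx
      exact CfsgLib.LocalEven.mem_normalizer_of_conj_le (le_of_eq_of_le (Subgroup.map_sup _ _ _)
        (sup_le_sup (mem_normalizer_iff_map_conj_eq.1 (CfsgLib.Solvable.le_normalizer_commutator_right hPV hx)).le
          (mem_normalizer_iff_map_conj_eq.1 (CfsgLib.Solvable.normalizer_le_normalizer_commutator _ _
            ⟨hPV hx, hPV hx⟩)).le))
  have hDWE : ∀ w ∈ D, w ∈ bWE p E → w = 1 := by
    intro w hw hwE
    have hwV := hDV hw
    have h1 := (norm_facts hPV).1 w (hDsup hw) hwV fun x hx =>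
      (mem_centralizer_iff.1 (hF.le_cW (hPF hx)) w hwE).symm
    have h2 : w ^ Nat.card ↥P = 1 := h.bWE_inf_bZ hE ht (pow_mem hwE _)
      ⟨bWE_le E (pow_mem hwE _), hVV h1⟩
    obtain ⟨k, hk⟩ := IsPGroup.iff_orderOf.1 (isPGroup_cV (p := p) (E := E)) ⟨w, hwV⟩
    rw [Subgroup.orderOf_mk] at hk
    refine orderOf_eq_one_iff.1 (Nat.eq_one_of_dvd_coprimes (hPc.pow_right k) (orderOf_dvd_of_pow_eq_one h2) ?_)
    rw [hk]
  have hDW : D ⊓ bW p E ≤ bZ p E := by
    intro w hw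
    refine ⟨hw.2, commutator_eq_bot_iff_le_centralizer.1 ?_ (mem_zpowers w)⟩
    rw [eq_bot_iff, commutator_le]
    intro y hy e he
    have hyD : y ∈ D ⊓ bW p E := (zpowers_le.2 hw) hy
    refine mem_bot.2 (hDWE _ ?_ (commutator_mem_commutator hyD.2 he))
    rw [show ⁅y, e⁆ = y * (e * y⁻¹ * e⁻¹) by rw [commutatorElement_def]; group]
    exact mul_mem hyD.1 (Baumann.conj_mem_of_le_normalizer (le_normalizer.trans hDn) he (inv_mem hyD.1))
  have hEn : E ≤ normalizer (D : Set G) := le_normalizer.trans hDn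
  rcases h.exc.irr ((D ⊓ Q) ⊔ bW p E) le_sup_right (sup_le inf_le_right (bW_le_core E))
      (fun e he => CfsgLib.LocalEven.mem_normalizer_of_conj_le (le_of_eq_of_le (Subgroup.map_sup _ _ _)
        (sup_le_sup (mem_normalizer_iff_map_conj_eq.1 (Baumann.normalizer_inf_le _ _
            ⟨hEn he, CfsgLib.LocalEven.le_normalizer_pCoreOf p E he⟩)).le
          (mem_normalizer_iff_map_conj_eq.1 (le_normalizer_bW E he)).le))) with h1 | h1
  · -- `[E, Fs]` stabilises `V ≥ D ≥ 1`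
    have hDQ : D ⊓ Q ≤ bZ p E := fun x hx => hDW ⟨hx.1, h1.le (mem_sup_left hx)⟩
    have hDE : ⁅D, E⁆ = ⊥ := by
      refine commutator_eq_bot_of_coprime ((isPGroup_bW E).to_le inf_le_left) hE.1 ?_
        (commutator_eq_bot_iff_le_centralizer.2 inf_le_right)
      exact (le_inf (CfsgLib.Solvable.commutator_le_of_le_normalizer hEn)
        ((commutator_mono hDV le_rfl).trans (commutator_cV_le hE))).trans hDQ
    intro f hf
    refine mem_normalizer_of_pGroup hE (X := cW p E ⊓ (stab V D ⊓ stab D ⊥)) ?_ (fun g hg => ?_) fun e he => ?_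
    · refine isPGroup_of_stab h.char hE hDV bot_le (by rw [normalizer_eq_top]; exact le_top)
        fun x hx => ⟨hx.2.1, hx.2.2, mem_stab_of_le le_rfl (by rw [normalizer_eq_top]; exact mem_top x)
          fun a ha => by rw [mem_bot.1 ha]; simp⟩
    · refine Baumann.normalizer_inf_le _ _ ⟨normalizer_le_cW hg, Baumann.normalizer_inf_le _ _
        ⟨relCent_normalized (le_normalizer (normalizer_le_cV hg)) (normalizer_le_cV hg) (hDn hg),
          relCent_normalized (le_normalizer (hDn hg)) (hDn hg) (by rw [normalizer_eq_top]; exact mem_top g)⟩⟩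
    · have hfs : f ∈ stab V D := mem_stab_of_le hDV (hF.le_normalizer_cV hf)
        fun v hv => commutator_mem_commutator hv hf
      have hes : e ∈ stab D ⊥ := mem_stab_of_le bot_le (hEn he) fun d hd =>
        hDE.le (commutator_mem_commutator hd he)
      refine ⟨?_, (commutator_mem_stab hfs (le_normalizer.trans normalizer_le_cV he) (hEn he)).2,
        (commutator_mem_stab hes (hFD hf) (by rw [normalizer_eq_top]; exact mem_top f)).1⟩
      rw [commutatorElement_def]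
      exact mul_mem ((mem_normalizer_iff.1 (normalizer_le_cW (le_normalizer he)) f).1 (hF.le_cW hf))
        ((cW p E).inv_mem (hF.le_cW hf))
  · exfalso
    by_cases hall : ThetaTrivial p E
    · exact h.no_complement hE (D ⊓ Q) inf_le_right h1.ge (fun x hx => hDW ⟨hx.1.1, hx.2⟩) fun b hb =>
        Baumann.normalizer_inf_le _ _ ⟨hDn (Block.baumann_le_normalizer hE hb),
          Block.normalizer_le_pCoreOf E (Block.baumann_le_normalizer hE hb)⟩
    · simp only [ThetaTrivial, not_forall] at hall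
      obtain ⟨a, ha, q, hq, hne⟩ := hall
      refine hne ?_
      have haD : a ∈ normalizer (D : Set G) := hDn (h.cC2_le_normalizer hE ha)
      have hWn : bW p E ≤ normalizer ((D ⊓ Q : Subgroup G) : Set G) := fun w hw => centralizer_le_normalizer _
        (mem_centralizer_iff.2 fun y hy => core_comm hy.2 hw)
      have hq' : q ∈ (↑((D ⊓ Q) ⊔ bW p E) : Set G) := h1.ge hq
      rw [coe_mul_of_right_le_normalizer_left _ _ hWn] at hq'
      obtain ⟨d, hd, w, hw, rfl⟩ := hq'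
      rw [show ⁅d * w, a⁆ = (d * ⁅w, a⁆ * d⁻¹) * ⁅d, a⁆ by simp only [commutatorElement_def]; group,
        commutatorElement_eq_one_iff_mul_comm.2 (h.centralizes_bW hE ha.1 ha.2 hw).symm, mul_one,
        mul_inv_cancel, one_mul]
      refine hDW ⟨?_, ha.2.2.2 d hd.2⟩
      rw [show ⁅d, a⁆ = d * (a * d⁻¹ * a⁻¹) by rw [commutatorElement_def]; group]
      exact mul_mem hd.1 ((mem_normalizer_iff.1 haD _).1 (inv_mem hd.1))

omit [Finite G] [Fact p.Prime] in
/-- `a ↦ [a, t]`. -/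
abbrev piT (t a : G) : G := a * (t * a⁻¹ * t)

/-- Inverted `p'`-elements centralise `O_p(C(W_E))` when the pairing is non-trivial. -/
theorem Hard.inverted_eq_one (h : Hard p (T : Subgroup G) E) (hE : IsBaumannBlock p (T : Subgroup G) E)
    (ht : Inv p E t) {g : G} (hgC : g ∈ cW p E) (hgt : t * g * t = g⁻¹) (hgo : Odd (orderOf g))
    (hgp : (orderOf g).Coprime p) {v₀ : G} (hv₀ : v₀ ∈ cV p E) (hv₀t : t * v₀ = v₀ * t)
    (hne : ∃ q ∈ pCoreOf p E, ⁅q, v₀⁆ ∉ bZ p E) : g = 1 := by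
  classical
  have hQV := h.core_le_cV hE
  have hgV : g ∈ normalizer (cV p E : Set G) := cW_le_normalizer_cV (le_normalizer hgC)
  have htV : t ∈ normalizer (cV p E : Set G) := normalizer_le_cV (le_normalizer ht.mem)
  have hAn : ∀ {x}, x ∈ normalizer (cV p E : Set G) → x ∈ normalizer (cA p E : Set G) :=
    fun hx => CfsgLib.LocalEven.Oz.normalizer_le _ hx
  have hVA : cV p E ≤ normalizer (cA p E : Set G) := fun x hx => hAn (le_normalizer hx)
  have hcv : cV p E ≤ cC2 p E := fun v hv => ⟨cV_le_cW hv, h.cV_mem_stab hE hv⟩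
  have hAc : ∀ {a b}, a ∈ cA p E → b ∈ cA p E → a * b = b * a :=
    fun ha hb => cA_central hb (cA_le_cV ha)
  have hp3 : IsPGroup p ↥(cA p E) := isPGroup_cV.to_le cA_le_cV
  -- odd order: `g` is a power of `g * g`
  have hgz : g ∈ zpowers (g * g) := by
    obtain ⟨k, hk⟩ := hgo
    refine mem_zpowers_iff.2 ⟨((k + 1 : ℕ) : ℤ), ?_⟩
    rw [zpow_natCast, ← pow_two, ← pow_mul, show 2 * (k + 1) = orderOf g + 1 by omega, pow_succ,
      pow_orderOf_eq_one, one_mul]
  have hgg : ⁅t, g⁆ = (g * g)⁻¹ := by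
    rw [commutatorElement_def, ht.inv_eq, hgt, _root_.mul_inv_rev]
  -- `g` centralises `cA`
  have hAE : ⁅cA p E, E⁆ ≤ bWE p E := by
    refine commutator_le_of_coprime (isPGroup_bW E) hE.1 ?_ le_rfl (le_normalizer_bWE E)
      ((bW_le E).trans (le_normalizer_bWE E))
    rw [commutator_le]
    intro a ha e he
    have h1 : ⁅a, e⁆ ∈ cA p E := by
      rw [show ⁅a, e⁆ = a * (e * a⁻¹ * e⁻¹) by rw [commutatorElement_def]; group]
      exact mul_mem ha ((mem_normalizer_iff.1 (hAn (normalizer_le_cV (le_normalizer he))) _).1 (inv_mem ha))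
    have h2 := commutator_cV_le hE (commutator_mem_commutator (cA_le_cV ha) he)
    exact CfsgLib.LocalEven.Oz.mem_iff.2 ⟨h2, fun s hs => cA_central h1 (hQV hs),
      (CfsgLib.LocalEven.Oz.mem_iff.1 h1).2.2⟩
  have hWEA : bWE p E ≤ cA p E := (bWE_le E).trans (h.bW_le_cA hE)
  have hgA : ∀ a ∈ cA p E, g * a = a * g := by
    have h2 : g * g ∈ centralizer (cA p E : Set G) := by
      refine mem_centralizer_iff.2 fun a ha => commutatorElement_eq_one_iff_mul_comm.1 (mem_bot.1 ?_)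
      have hts : t ∈ stab (cA p E) (bWE p E) := mem_stab_of_le hWEA (hAn htV) fun a ha =>
        hAE (commutator_mem_commutator ha ht.mem)
      have hgW : g ∈ normalizer (bWE p E : Set G) := centralizer_le_normalizer _ hgC
      have h3 := (commutator_mem_stab hts (hAn hgV) hgW).1
      rw [hgg] at h3
      have h4 := inv_mem h3
      rw [inv_inv] at h4
      refine comm_mem_of_coprime (K := bWE p E) (hp3.to_le hWEA) ?_ (h4.2.2 a ha)
        (by rw [normalizer_eq_top]; exact mem_top _) (by rw [normalizer_eq_top]; exact le_top) fun w hw => ?_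
      · rw [← pow_two]; exact orderOf_pow_self hgp 2
      · rw [mem_bot, commutatorElement_eq_one_iff_mul_comm]
        exact mem_centralizer_iff.1 (mul_mem hgC hgC) w hw
    intro a ha
    exact (mem_centralizer_iff.1 ((zpowers_le.2 h2) hgz) a ha).symm
  -- the pairing
  have hMn : ∀ {x}, x ∈ normalizer (cV p E : Set G) →
      x ∈ normalizer (relCent (cV p E) (cV p E : Set G) (cA p E) : Set G) :=
    fun hx => relCent_normalized hx hx (hAn hx)
  set M := relCent (cV p E) (cV p E : Set G) (cA p E) with hM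
  have hMm : ∀ {x m}, x ∈ cV p E → m ∈ M → ⁅x, m⁆ ∈ cA p E := fun hx hm => hm.2.2 _ hx
  have hQM : pCoreOf p E ≤ M := fun q hq => ⟨hQV hq, hVA (hQV hq), fun x hx =>
    h.bW_le_cA hE (h.cV_core hE hq hx)⟩
  have hconjA : ∀ {n a}, n ∈ cV p E → a ∈ cA p E → n * a * n⁻¹ = a := fun hn ha => by
    rw [cA_central ha hn, mul_inv_cancel_right]
  have hcA1 : ∀ {a}, a ∈ cA p E → t * a * t ∈ cA p E := fun {a} ha => by
    have := (mem_normalizer_iff.1 (hAn htV) a).1 ha
    rwa [ht.inv_eq] at this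
  have hpiA : ∀ {a}, a ∈ cA p E → piT t a ∈ cA p E := fun {a} ha => mul_mem ha (hcA1 (inv_mem ha))
  have hpim : ∀ {a b}, a ∈ cA p E → b ∈ cA p E → piT t (a * b) = piT t a * piT t b := fun {a b} ha hb => by
    have h1 : t * (a * b)⁻¹ * t = (t * a⁻¹ * t) * (t * b⁻¹ * t) := by
      rw [show (a * b)⁻¹ = a⁻¹ * b⁻¹ by rw [hAc ha hb, _root_.mul_inv_rev]]
      simp only [mul_assoc]
      simp [← mul_assoc, ht.sq, mul_assoc]
      rw [← mul_assoc t t, ht.sq, one_mul]
    simp only [piT]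
    rw [h1, mul_assoc, ← mul_assoc b, hAc hb (hcA1 (inv_mem ha))]
    simp only [mul_assoc]
  have hpi1 : ∀ {a}, t * a * t = a → piT t a = 1 := fun {a} ha => by
    have h1 : t * a⁻¹ * t = a⁻¹ := by
      have := congrArg Inv.inv ha
      simpa [_root_.mul_inv_rev, ht.inv_eq, mul_assoc] using this
    rw [piT, h1, mul_inv_cancel]
  have hpiZ : ∀ {a}, a ∈ bW p E → piT t a = 1 → a ∈ bZ p E := fun {a} ha ha1 => by
    refine h.mem_bZ_of_fixed hE ht (bW_le_core E ha) ?_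
    have h2 : t * a⁻¹ * t = a⁻¹ := eq_inv_of_mul_eq_one_right ha1
    have := congrArg Inv.inv h2
    simpa [_root_.mul_inv_rev, ht.inv_eq, mul_assoc] using this
  have hbL : ∀ {x y m}, x ∈ cV p E → y ∈ cV p E → m ∈ M →
      piT t ⁅x * y, m⁆ = piT t ⁅x, m⁆ * piT t ⁅y, m⁆ := fun {x y m} hx hy hm => by
    rw [show ⁅x * y, m⁆ = (x * ⁅y, m⁆ * x⁻¹) * ⁅x, m⁆ by simp only [commutatorElement_def]; group,
      hconjA hx (hMm hy hm), hAc (hMm hy hm) (hMm hx hm), hpim (hMm hx hm) (hMm hy hm)]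
  have hbR : ∀ {x m m'}, x ∈ cV p E → m ∈ M → m' ∈ M →
      piT t ⁅x, m * m'⁆ = piT t ⁅x, m⁆ * piT t ⁅x, m'⁆ := fun {x m m'} hx hm hm' => by
    rw [show ⁅x, m * m'⁆ = ⁅x, m⁆ * (m * ⁅x, m'⁆ * m⁻¹) by simp only [commutatorElement_def]; group,
      hconjA hm.1 (hMm hx hm'), hpim (hMm hx hm) (hMm hx hm')]
  have hQQ : ∀ {a b}, a ∈ pCoreOf p E → b ∈ pCoreOf p E → piT t ⁅a, b⁆ = 1 := fun ha hb =>
    hpi1 (ht.centralizes_bZ (h.exc.derived.le (commutator_mem_commutator ha hb)))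
  have hfix : ∀ {a b}, t * a = a * t → t * b = b * t → piT t ⁅a, b⁆ = 1 := fun {a b} ha hb => by
    refine hpi1 ?_
    have hc : Commute t ⁅a, b⁆ := by
      rw [commutatorElement_def]
      exact (((Commute.mul_right ha hb).mul_right (Commute.inv_right ha)).mul_right (Commute.inv_right hb))
    rw [hc.eq, mul_assoc, ht.sq, mul_one]
  have hZ1 : ∀ {a}, a ∈ bZ p E → piT t a = 1 := fun ha => hpi1 (ht.centralizes_bZ ha)
  have hginv : ∀ {x m}, x ∈ cV p E → m ∈ M → piT t ⁅g * x * g⁻¹, g * m * g⁻¹⁆ = piT t ⁅x, m⁆ :=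
    fun {x m} hx hm => by
      rw [show ⁅g * x * g⁻¹, g * m * g⁻¹⁆ = g * ⁅x, m⁆ * g⁻¹ by simp only [commutatorElement_def]; group,
        hgA _ (hMm hx hm), mul_inv_cancel_right]
  have hth : ∀ {v}, v ∈ cV p E → (∀ q ∈ pCoreOf p E, ∀ x ∈ pCoreOf p E, q ∉ bW p E → ⁅q, v⁆ ∈ bZ p E →
      ⁅x, v⁆ ∈ bZ p E) := fun {v} hv q hq x hx hqW hqv => by
    by_contra hxv
    exact hqW (h.theta_inj hE (hcv hv) ⟨x, hx, hxv⟩ hq hqv)
  have hsplitM : ∀ {m}, m ∈ M → ∃ q ∈ pCoreOf p E, ∃ m0 ∈ M, m = q * m0 ∧ t * m0 = m0 * t := fun {m} hm => by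
    obtain ⟨q, hq, m0, -, e, hm0⟩ := h.split hE ht hm.1
    exact ⟨q, hq, m0, by rw [show m0 = q⁻¹ * m by rw [e]; group]; exact mul_mem (inv_mem (hQM hq)) hm, e, hm0⟩
  have hgQ : ∀ {q}, q ∈ pCoreOf p E → g * q * g⁻¹ ∈ M := fun hq => (mem_normalizer_iff.1 (hMn hgV) _).1 (hQM hq)
  -- counting
  obtain ⟨q, hq, hqW, qs, hqs, hqsW, hqz⟩ :
      ∃ q ∈ pCoreOf p E, q ∉ bW p E ∧ ∃ qs ∈ pCoreOf p E, qs ∉ bW p E ∧ ⁅qs, g * q * g⁻¹⁆ ∈ bZ p E := by
    obtain ⟨F, _, _, n, hn, -, ⟨RW⟩, ⟨RQ⟩⟩ := h.exists_reps hE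
    by_contra hcon
    push Not at hcon
    choose s hs hsv using RQ.vec_surj
    have hbil : ∀ {a b v}, a ∈ pCoreOf p E → b ∈ pCoreOf p E → v ∈ cV p E →
        ⁅a * b, v⁆ = ⁅b, v⁆ * ⁅a, v⁆ := fun {a b v} ha hb hv => by
      rw [show ⁅a * b, v⁆ = (a * ⁅b, v⁆ * a⁻¹) * ⁅a, v⁆ by simp only [commutatorElement_def]; group,
        core_comm ha (h.core_cV hE hb hv), mul_inv_cancel_right]
    -- the map of `v`
    have hχ : ∀ v ∈ cV p E, ∃ χ : (Fin 2 → F) →+ (Fin 2 → F),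
        ∀ a ∈ pCoreOf p E, χ (RQ.vec a) = RW.vec ⁅a, v⁆ := by
      intro v hv
      have hkey : ∀ a ∈ pCoreOf p E, RW.vec ⁅s (RQ.vec a), v⁆ = RW.vec ⁅a, v⁆ := fun a ha => by
        have hw : a⁻¹ * s (RQ.vec a) ∈ bW p E := (RQ.vec_eq_zero _ (mul_mem (inv_mem ha) (hs _))).1 (by
          rw [RQ.vec_mul _ (inv_mem ha) _ (hs _), hsv, RQ.vec_inv ha, neg_add_cancel])
        have e2 : ⁅s (RQ.vec a), v⁆ = ⁅a⁻¹ * s (RQ.vec a), v⁆ * ⁅a, v⁆ := by
          conv_lhs => rw [show s (RQ.vec a) = a * (a⁻¹ * s (RQ.vec a)) by group]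
          exact hbil ha (bW_le_core E hw) hv
        rw [e2, commutatorElement_eq_one_iff_mul_comm.2
          (h.centralizes_bW hE (hcv hv).1 (hcv hv).2 hw).symm, one_mul]
      refine ⟨AddMonoidHom.mk' (fun u => RW.vec ⁅s u, v⁆) fun u u' => ?_, hkey⟩
      rw [← RW.vec_mul _ (h.core_cV hE (hs u) hv) _ (h.core_cV hE (hs u') hv),
        bW_comm (h.core_cV hE (hs u) hv) (h.core_cV hE (hs u') hv), ← hbil (hs u) (hs u') hv,
        ← hkey _ (mul_mem (hs u) (hs u')), RQ.vec_mul _ (hs u) _ (hs u'), hsv, hsv]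
    choose χ hχ using hχ
    obtain ⟨w0, hw0, hw0n⟩ := hne
    have hinj : Function.Injective (χ v₀ hv₀) := by
      refine (injective_iff_map_eq_zero _).2 fun u hu => ?_
      obtain ⟨a, ha, rfl⟩ := RQ.vec_surj u
      rw [hχ v₀ hv₀ a ha, RW.vec_eq_zero _ (h.core_cV hE ha hv₀)] at hu
      exact (RQ.vec_eq_zero a ha).2 (h.theta_inj hE (hcv hv₀) ⟨w0, hw0, hw0n⟩ ha hu)
    have hbij := Finite.injective_iff_bijective.1 hinj
    have hequiv : ∀ v (hv : v ∈ cV p E), ∀ e ∈ E, ∀ a ∈ pCoreOf p E,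
        χ v hv (Lin.act (RQ.rho e) (RQ.vec a)) = Lin.act (RW.rho e) (χ v hv (RQ.vec a)) := by
      intro v hv e he a ha
      obtain ⟨z, hz, e1⟩ := h.equivariant hE (hcv hv) he ha
      have hm : e * ⁅a, v⁆ * e⁻¹ ∈ bW p E :=
        Baumann.conj_mem_of_le_normalizer (le_normalizer_bW E) he (h.core_cV hE ha hv)
      rw [← RQ.vec_conj e he a ha, hχ v hv _ (Baumann.conj_mem_of_le_normalizer RQ.le_normalizer he ha),
        hχ v hv a ha, e1, RW.vec_mul _ hm _ hz.1, (RW.vec_eq_zero z hz.1).2 hz, add_zero,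
        RW.vec_conj e he _ (h.core_cV hE ha hv)]
    let e0 := AddEquiv.ofBijective (χ v₀ hv₀) hbij
    have hsc : ∀ v (hv : v ∈ cV p E), ∃ k : F, ∀ u, χ v hv u = χ v₀ hv₀ (k • u) := by
      intro v hv
      obtain ⟨k, hk⟩ := Lin.comm_scalar hn (e0.symm.toAddMonoidHom.comp (χ v hv)) fun r hr u => by
        obtain ⟨e, he, rfl⟩ := RQ.rho_surj r hr
        obtain ⟨a, ha, rfl⟩ := RQ.vec_surj u
        apply hinj
        show e0 (e0.symm (χ v hv (Lin.act (RQ.rho e) (RQ.vec a)))) =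
          χ v₀ hv₀ (Lin.act (RQ.rho e) (e0.symm (χ v hv (RQ.vec a))))
        obtain ⟨b, hb, hbe⟩ := RQ.vec_surj (e0.symm (χ v hv (RQ.vec a)))
        rw [e0.apply_symm_apply, ← hbe, hequiv v₀ hv₀ e he b hb, hequiv v hv e he a ha, hbe]
        congr 1
        exact (e0.apply_symm_apply _).symm
      refine ⟨k, fun u => ?_⟩
      rw [← hk]
      exact (e0.apply_symm_apply _).symm
    obtain ⟨qs, hqs, hqsv⟩ := RQ.vec_surj ![1, 0]
    have hqsW : qs ∉ bW p E := fun hw => by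
      have := congrFun (hqsv.symm.trans ((RQ.vec_eq_zero qs hqs).2 hw)) 0
      simp at this
    choose k hk using fun v (hv : v ∈ cV p E) => hsc v hv
    let Ψ : (Fin 2 → F) → F := fun u => k (g * s u * g⁻¹) (hgQ (hs u)).1
    have hΨ : Function.Injective Ψ := by
      intro u u' he
      by_contra huu
      have hm := fun u => (hgQ (hs u)).1
      refine hcon (s u * (s u')⁻¹) (mul_mem (hs u) (inv_mem (hs u'))) (fun hw => huu ?_) qs hqs hqsW ?_
      · rw [← hsv u, ← hsv u']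
        exact (RQ.vec_eq_iff (hs u) (hs u')).2 hw
      · have e1 : ∀ u, RW.vec ⁅qs, g * s u * g⁻¹⁆ = χ v₀ hv₀ (Ψ u • ![1, 0]) := fun u => by
          rw [← hχ _ (hm u) qs hqs, hqsv, hk]
        have hmm : g * (s u * (s u')⁻¹) * g⁻¹ ∈ cV p E :=
          (hgQ (mul_mem (hs u) (inv_mem (hs u')))).1
        refine (RW.vec_eq_zero _ (h.core_cV hE hqs hmm)).1 ?_
        set m := g * s u * g⁻¹ with hm1
        set m' := g * s u' * g⁻¹ with hm2
        have hd : m = g * (s u * (s u')⁻¹) * g⁻¹ * m' := by rw [hm1, hm2]; group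
        have hw1 := h.core_cV hE hqs hmm
        have hw2 := h.core_cV hE hqs (hm u')
        have e3 : ⁅qs, m⁆ = ⁅qs, g * (s u * (s u')⁻¹) * g⁻¹⁆ * ⁅qs, m'⁆ := by
          rw [hd, show ⁅qs, g * (s u * (s u')⁻¹) * g⁻¹ * m'⁆ = ⁅qs, g * (s u * (s u')⁻¹) * g⁻¹⁆ *
            (g * (s u * (s u')⁻¹) * g⁻¹ * ⁅qs, m'⁆ * (g * (s u * (s u')⁻¹) * g⁻¹)⁻¹) by
              simp only [commutatorElement_def]; group,
            h.centralizes_bW hE (hcv hmm).1 (hcv hmm).2 hw2, mul_inv_cancel_right]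
        have e4 := congrArg RW.vec e3
        rw [RW.vec_mul _ hw1 _ hw2, e1 u, e1 u', he] at e4
        exact right_eq_add.1 e4
    have hc := Nat.card_le_card_of_injective Ψ hΨ
    rw [Nat.card_eq_fintype_card, Nat.card_eq_fintype_card, Fintype.card_fun, Fintype.card_fin] at hc
    have h1 : 1 < Fintype.card F := Fintype.one_lt_card
    nlinarith
  -- the decompositions
  obtain ⟨w0, hw0, hw0n⟩ := hne
  have hθ0 : ∀ a ∈ pCoreOf p E, ∀ q1 ∈ pCoreOf p E, ∀ m0 ∈ M, g * a * g⁻¹ = q1 * m0 → t * m0 = m0 * t →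
      ∀ x ∈ pCoreOf p E, ⁅x, m0⁆ ∈ bZ p E := by
    obtain ⟨q1, hq1, m0, hm0, eu, hm0t⟩ := hsplitM (hgQ hq)
    have hm0z : ∀ x ∈ pCoreOf p E, ⁅x, m0⁆ ∈ bZ p E := by
      intro x hx
      refine hth hm0.1 qs hqs x hx hqsW (hpiZ (h.core_cV hE hqs hm0.1) ?_)
      have := hbR (hQV hqs) (hQM hq1) hm0
      rw [hQQ hqs hq1, one_mul, ← eu] at this
      rw [← this]; exact hZ1 hqz
    intro a ha a1 ha1 m0' hm0' eu' hm0't x hx
    by_contra hne'
    have hm0W : ⁅m0, a1⁆ ∈ bZ p E := by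
      rw [← commutatorElement_inv]; exact inv_mem (hm0z _ ha1)
    have h1 := hginv (hQV hq) (hQM ha)
    rw [eu, eu', hQQ hq ha, hbL (hQV hq1) hm0.1 (mul_mem (hQM ha1) hm0'), hbR (hQV hq1) (hQM ha1) hm0',
      hbR hm0.1 (hQM ha1) hm0', hQQ hq1 ha1, hZ1 hm0W, hfix hm0t hm0't, one_mul, mul_one, mul_one] at h1
    have hq1W : q1 ∈ bW p E :=
      h.theta_inj hE (hcv hm0'.1) ⟨x, hx, hne'⟩ hq1 (hpiZ (h.core_cV hE hq1 hm0'.1) h1)
    have hvg : g * v₀ * g⁻¹ ∈ cV p E := (mem_normalizer_iff.1 hgV v₀).1 hv₀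
    obtain ⟨v1, hv1, v0', hv0', ev, hv0't⟩ := h.split hE ht hvg
    have h2 := hginv hv₀ (hQM hq)
    have hv1m : ⁅v1, m0⁆ ∈ bZ p E := hm0z v1 hv1
    have hv0q : ⁅v0', q1⁆ = 1 := commutatorElement_eq_one_iff_mul_comm.2
      (h.centralizes_bW hE (hcv hv0').1 (hcv hv0').2 hq1W)
    rw [eu, ev, hbL (hQV hv1) hv0' (mul_mem (hQM hq1) hm0), hbR (hQV hv1) (hQM hq1) hm0,
      hbR hv0' (hQM hq1) hm0, hQQ hv1 hq1, hZ1 hv1m, hv0q, hfix hv0't hm0t, hpi1 (by rw [mul_one, ht.sq]),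
      one_mul, one_mul] at h2
    refine hqW (h.theta_inj hE (hcv hv₀) ⟨w0, hw0, hw0n⟩ hq ?_)
    rw [← commutatorElement_inv]
    exact inv_mem (hpiZ (h.cV_core hE hq hv₀) h2.symm)
  -- the radical
  let Rad : Subgroup G :=
    { carrier := {m | m ∈ M ∧ ∀ x ∈ cV p E, piT t ⁅x, m⁆ = 1}
      one_mem' := ⟨one_mem M, fun x _ => by rw [commutatorElement_one_right]; exact hpi1 (by rw [mul_one, ht.sq])⟩
      mul_mem' := fun {a b} ha hb => ⟨mul_mem ha.1 hb.1, fun x hx => by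
        rw [hbR hx ha.1 hb.1, ha.2 x hx, hb.2 x hx, one_mul]⟩
      inv_mem' := fun {a} ha => ⟨inv_mem ha.1, fun x hx => by
        have h1 := hbR hx ha.1 (inv_mem ha.1)
        rw [mul_inv_cancel, ha.2 x hx, one_mul, commutatorElement_one_right, hpi1 (by rw [mul_one, ht.sq])] at h1
        exact h1.symm⟩ }
  have hRV : Rad ≤ cV p E := fun m hm => hm.1.1
  have hAR : cA p E ≤ Rad := fun a ha => by
    have hc : ∀ x ∈ cV p E, ⁅x, a⁆ = 1 := fun x hx => commutatorElement_eq_one_iff_mul_comm.2 (cA_central ha hx)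
    exact ⟨⟨cA_le_cV ha, le_normalizer ha, fun x hx => by rw [hc x hx]; exact one_mem _⟩,
      fun x hx => by rw [hc x hx]; exact hpi1 (by rw [mul_one, ht.sq])⟩
  have hVR : cV p E ≤ normalizer (Rad : Set G) := fun n hn => CfsgLib.LocalEven.mem_normalizer_of_conj_le (by
    rintro _ ⟨m, hm, rfl⟩
    refine ⟨(mem_normalizer_iff.1 (hMn (le_normalizer hn)) m).1 hm.1, fun x hx => ?_⟩
    have hx' : n⁻¹ * x * n ∈ cV p E := mul_mem (mul_mem (inv_mem hn) hx) hn
    show piT t ⁅x, n * m * n⁻¹⁆ = 1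
    rw [show ⁅x, n * m * n⁻¹⁆ = n * ⁅n⁻¹ * x * n, m⁆ * n⁻¹ by simp only [commutatorElement_def]; group,
      hconjA hn (hMm hx' hm.1)]
    exact hm.2 _ hx')
  have hgR : g ∈ normalizer (Rad : Set G) := CfsgLib.LocalEven.mem_normalizer_of_conj_le (by
    rintro _ ⟨m, hm, rfl⟩
    refine ⟨(mem_normalizer_iff.1 (hMn hgV) m).1 hm.1, fun x hx => ?_⟩
    have hx' : g⁻¹ * x * g ∈ cV p E := (mem_normalizer_iff''.1 hgV x).1 hx
    show piT t ⁅x, g * m * g⁻¹⁆ = 1
    have := hginv hx' hm.1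
    rw [show g * (g⁻¹ * x * g) * g⁻¹ = x by group, hm.2 _ hx'] at this
    exact this)
  have htR : t ∈ normalizer (Rad : Set G) := CfsgLib.LocalEven.mem_normalizer_of_conj_le (by
    rintro _ ⟨m, hm, rfl⟩
    refine ⟨(mem_normalizer_iff.1 (hMn htV) m).1 hm.1, fun x hx => ?_⟩
    have hx' : t * x * t⁻¹ ∈ cV p E := (mem_normalizer_iff.1 htV x).1 hx
    show piT t ⁅x, t * m * t⁻¹⁆ = 1
    have h1 := hm.2 _ hx'
    have e1 : ⁅x, t * m * t⁻¹⁆ = t * ⁅t * x * t⁻¹, m⁆ * t := by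
      have h0 : x = t * (t * x * t⁻¹) * t⁻¹ := by
        rw [ht.inv_eq]; simp only [mul_assoc]; rw [ht.sq]; simp [← mul_assoc, ht.sq]
      conv_lhs => rw [h0]
      rw [show ⁅t * (t * x * t⁻¹) * t⁻¹, t * m * t⁻¹⁆ = t * ⁅t * x * t⁻¹, m⁆ * t⁻¹ by
        simp only [commutatorElement_def]; group, ht.inv_eq]
    rw [e1]
    set a := ⁅t * x * t⁻¹, m⁆ with ha
    have h2 : t * a⁻¹ * t = a⁻¹ := eq_inv_of_mul_eq_one_right h1
    have h3 : t * a * t = a := by
      have := congrArg Inv.inv h2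
      simpa [_root_.mul_inv_rev, ht.inv_eq, mul_assoc] using this
    rw [h3]; exact h1)
  have hm0R : ∀ a ∈ pCoreOf p E, g * a * g⁻¹ ∈ pCoreOf p E ⊔ Rad := by
    intro a ha
    obtain ⟨q1, hq1, m0, hm0, eu, hm0t⟩ := hsplitM (hgQ ha)
    rw [eu]
    refine mul_mem (mem_sup_left hq1) (mem_sup_right ⟨hm0, fun x hx => ?_⟩)
    obtain ⟨x1, hx1, x0, hx0, rfl, hx0t⟩ := h.split hE ht hx
    rw [hbL (hQV hx1) hx0 hm0, hfix hx0t hm0t, mul_one]
    exact hZ1 (hθ0 a ha q1 hq1 m0 hm0 eu hm0t x1 hx1)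
  have hM1n : g ∈ normalizer ((pCoreOf p E ⊔ Rad : Subgroup G) : Set G) :=
    CfsgLib.LocalEven.mem_normalizer_of_conj_le (le_of_eq_of_le (Subgroup.map_sup _ _ _) (sup_le
      (by rintro _ ⟨a, ha, rfl⟩; exact hm0R a ha)
      ((mem_normalizer_iff_map_conj_eq.1 hgR).le.trans le_sup_right)))
  have hQR : pCoreOf p E ≤ normalizer (Rad : Set G) := hQV.trans hVR
  have hneg : ∀ m ∈ pCoreOf p E ⊔ Rad, t * m * t * m ∈ Rad := by
    intro m hm
    have hm' : m ∈ (↑(pCoreOf p E ⊔ Rad) : Set G) := hm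
    rw [coe_mul_of_left_le_normalizer_right _ _ hQR] at hm'
    obtain ⟨a, ha, r, hr, rfl⟩ := hm'
    have hr' : t * r * t ∈ Rad := by
      have := (mem_normalizer_iff.1 htR r).1 hr
      rwa [ht.inv_eq] at this
    rw [show t * (a * r) * t * (a * r) = (t * a * t⁻¹ * a) * (a⁻¹ * (t * r * t) * a) * r by group, ht.inv_eq]
    exact mul_mem (mul_mem (hAR (h.bW_le_cA hE (ht.invQ a ha))) ((mem_normalizer_iff''.1 (hQR ha) _).1 hr')) hr
  have hM1V : pCoreOf p E ⊔ Rad ≤ cV p E := sup_le hQV hRV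
  have hg2M : g * g ∈ stab (pCoreOf p E ⊔ Rad) Rad := by
    refine mem_stab_of_le le_sup_right (mul_mem hM1n hM1n) fun m hm => ?_
    have k1 := hneg m hm
    set n' := g * m⁻¹ * g⁻¹ with hn'
    have hn'M : n' ∈ pCoreOf p E ⊔ Rad := (mem_normalizer_iff.1 hM1n _).1 (inv_mem hm)
    have k2 := hneg n' hn'M
    have k3 : g * (t * m * t * m) * g⁻¹ ∈ Rad := (mem_normalizer_iff.1 hgR _).1 k1
    have k4 := (mem_normalizer_iff.1 htR _).1 k3
    rw [ht.inv_eq] at k4
    have hgi : t * g = g⁻¹ * t := by rw [← hgt, mul_assoc _ t t, ht.sq, mul_one]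
    have hgi' : g⁻¹ * t = t * g := hgi.symm
    have hgi2 : t * g⁻¹ = g * t := by
      have h0 : t * g⁻¹ * t = g := by
        have := congrArg Inv.inv hgt
        simpa [_root_.mul_inv_rev, ht.inv_eq, mul_assoc] using this
      conv_rhs => rw [← h0]
      rw [mul_assoc _ t t, ht.sq, mul_one]
    have e1 : t * (g * (t * m * t * m) * g⁻¹) * t * (t * n' * t * n') = g⁻¹ * m * g * (g * m⁻¹ * g⁻¹) := by
      rw [hn']
      calc t * (g * (t * m * t * m) * g⁻¹) * t * (t * (g * m⁻¹ * g⁻¹) * t * (g * m⁻¹ * g⁻¹))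
          = (t * g) * t * m * t * m * g⁻¹ * (t * t) * g * m⁻¹ * g⁻¹ * t * (g * m⁻¹ * g⁻¹) := by group
        _ = g⁻¹ * t * t * m * t * g⁻¹ * t * (g * m⁻¹ * g⁻¹) := by rw [hgi, ht.sq]; group
        _ = g⁻¹ * (t * t) * m * (t * g⁻¹) * t * (g * m⁻¹ * g⁻¹) := by group
        _ = g⁻¹ * (t * t) * m * g * (t * t) * (g * m⁻¹ * g⁻¹) := by rw [hgi2]; group
        _ = _ := by rw [ht.sq]; group
    have k5 := mul_mem k4 k2
    rw [e1] at k5
    have k6 := (mem_normalizer_iff.1 hgR _).1 k5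
    rwa [show g * (g⁻¹ * m * g * (g * m⁻¹ * g⁻¹)) * g⁻¹ = ⁅m, g * g⁆ by rw [commutatorElement_def]; group] at k6
  have hgM : g ∈ stab (pCoreOf p E ⊔ Rad) Rad := (zpowers_le.2 hg2M) hgz
  have hgRA : g ∈ stab Rad (cA p E) := by
    refine (zpowers_le.2 ?_) hgz
    have hts : t ∈ stab Rad (cA p E) := mem_stab_of_le hAR htR fun r hr => by
      have h1 := commutator_cV_le hE (commutator_mem_commutator (hRV hr) ht.mem)
      have h2 : ⁅r, t⁆ ∈ Rad := by
        rw [show ⁅r, t⁆ = r * (t * r⁻¹ * t⁻¹) by rw [commutatorElement_def]; group]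
        exact mul_mem hr ((mem_normalizer_iff.1 htR _).1 (inv_mem hr))
      refine h.bW_le_cA hE (h.theta_inj hE (hcv hv₀) ⟨w0, hw0, hw0n⟩ h1 ?_)
      rw [← commutatorElement_inv]
      exact inv_mem (hpiZ (h.cV_core hE h1 hv₀) (h2.2 v₀ hv₀))
    have h3 := (commutator_mem_stab hts hgR (hAn hgV)).1
    rw [hgg] at h3
    simpa using inv_mem h3
  have hcQ : ∀ a ∈ pCoreOf p E, g * a = a * g := fun a ha => by
    have h1 : ⁅a, g⁆ ∈ cA p E := comm_mem_of_coprime (K := Rad) (isPGroup_cV.to_le hRV) hgp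
      (hgM.2.2 a (mem_sup_left ha)) hgRA.2.1 (hRV.trans hVA) hgRA.2.2
    have h2 : ⁅a, g⁆ ∈ (⊥ : Subgroup G) := comm_mem_of_coprime (K := cA p E) hp3 hgp h1
      (by rw [normalizer_eq_top]; exact mem_top g) (by rw [normalizer_eq_top]; exact le_top)
      fun k hk => mem_bot.2 (commutatorElement_eq_one_iff_mul_comm.2 (hgA k hk).symm)
    exact (commutatorElement_eq_one_iff_mul_comm.1 (mem_bot.1 h2)).symm
  have hgn : g ∈ normalizer (E : Set G) := h.normalizer_core_le hE hgC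
    (centralizer_le_normalizer _ (mem_centralizer_iff.2 fun a ha => (hcQ a ha).symm))
  have h5 := commutator_mem_core hE hgC hgn ht.mem
  rw [hgg] at h5
  exact eq_one_of_pElem_coprime (CfsgLib.LocalEven.isPGroup_pCoreOf p E)
    ((zpowers_le.2 (by simpa using inv_mem h5)) hgz) hgp

/-- `t` centralises a `p'`-section. -/
theorem Hard.sec_comm (h : Hard p (T : Subgroup G) E) (hE : IsBaumannBlock p (T : Subgroup G) E)
    (ht : Inv p E t) {Fs : Subgroup G} (hF : Sec p E Fs) {f : G} (hf : f ∈ Fs) :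
    f * t * f⁻¹ * t ∈ cV p E := by
  by_cases h0 : ∀ v ∈ cV p E, ∀ q ∈ pCoreOf p E, ⁅q, v⁆ ∈ bZ p E
  · have hfn := h.sec_le_normalizer hE ht h0 hF hf
    have h1 := inv_mem (commutator_mem_core hE (hF.le_cW hf) hfn ht.mem)
    rw [commutatorElement_inv, commutatorElement_def, ht.inv_eq] at h1
    exact h.core_le_cV hE h1
  · push Not at h0
    obtain ⟨v, hv, a, ha, hne⟩ := h0
    obtain ⟨v1, hv1, v0, hv0, rfl, hv0t⟩ := h.split hE ht hv
    have hne0 : ⁅a, v0⁆ ∉ bZ p E := fun hz => hne (by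
      rw [show ⁅a, v1 * v0⁆ = ⁅a, v1⁆ * (v1 * ⁅a, v0⁆ * v1⁻¹) by simp only [commutatorElement_def]; group]
      exact mul_mem (h.exc.derived.le (commutator_mem_commutator ha hv1))
        (Baumann.conj_mem_of_le_normalizer ((CfsgLib.LocalEven.pCoreOf_le p E).trans (le_normalizer_bZ E)) hv1 hz))
    set y := f * t * f⁻¹ * t with hy
    have hyt : t * y * t = y⁻¹ := by
      rw [hy, show t * (f * t * f⁻¹ * t) * t = t * f * t * f⁻¹ * (t * t) by group, ht.sq, mul_one]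
      simp [_root_.mul_inv_rev, ht.inv_eq, mul_assoc]
    have hyF : y ∈ Fs := by
      have h1 := (mem_normalizer_iff.1 (hF.normal (le_normalizer ht.mem)) f⁻¹).1 (inv_mem hf)
      rw [ht.inv_eq] at h1
      rw [hy, show f * t * f⁻¹ * t = f * (t * f⁻¹ * t) by group]
      exact mul_mem hf h1
    haveI : ((cV p E).subgroupOf Fs).Normal := normal_subgroupOf_of_le_normalizer hF.le_normalizer_cV
    have hr : y ^ (cV p E).relIndex Fs ∈ cV p E :=
      mem_subgroupOf.1 (((cV p E).subgroupOf Fs).pow_index_mem ⟨y, hyF⟩)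
    obtain ⟨k, hk⟩ := IsPGroup.iff_orderOf.1 (isPGroup_cV (p := p) (E := E)) ⟨_, hr⟩
    rw [Subgroup.orderOf_mk] at hk
    have hy1 : y ^ ((cV p E).relIndex Fs * p ^ k) = 1 := by rw [pow_mul, ← hk, pow_orderOf_eq_one]
    have hdiv : orderOf (y ^ p ^ k) ∣ (cV p E).relIndex Fs :=
      orderOf_dvd_of_pow_eq_one (by rw [← pow_mul, mul_comm, hy1])
    have hyk : y ^ p ^ k = 1 := by
      refine h.inverted_eq_one hE ht (pow_mem (hF.le_cW hyF) _) ?_ (Odd.of_dvd_nat hF.odd hdiv)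
        (hF.cop.coprime_dvd_left hdiv) hv0 hv0t ⟨a, ha, hne0⟩
      have h2 : (t * y * t⁻¹) ^ p ^ k = t * y ^ p ^ k * t⁻¹ := conj_pow
      rw [ht.inv_eq, hyt, inv_pow] at h2
      exact h2.symm
    exact SubBlock.mem_of_coprime_pows (hF.cop.pow_right k) hr (by rw [hyk]; exact one_mem _)

end CfsgLib.LocalEven.BlockCentral
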