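import Mathlib
import Cfsg.Agent.Lib.LocalEven.BlockCentral.Fit
import Cfsg.Agent.Lib.Invol.ZStarFinal
import Cfsg.Agent.Lib.LocalEven.SolvableOffender
import Cfsg.Agent.S0205

/-!
`C(W_E)` normalises a block.
-/

set_option autoImplicit false

namespace CfsgLib.LocalEven.BlockCentral

open Subgroup Cfsg Matrix
open CfsgLib.LocalEven.SubBlock
open scoped Pointwise commutatorElement

variable {G : Type*} [Group G] [Finite G] {p : ℕ} [Fact p.Prime] {T : Sylow p G} {E : Subgroup G} {t : G}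

/-- `Z ≤ D` when `D W = Q`. -/
theorem Hard.derived_le (h : Hard p (T : Subgroup G) E) {D : Subgroup G} (hD : D ≤ pCoreOf p E)
    (hsup : pCoreOf p E ≤ D ⊔ bW p E) : bZ p E ≤ D := by
  have hWn : bW p E ≤ normalizer (D : Set G) := fun w hw => centralizer_le_normalizer _
    (mem_centralizer_iff.2 fun d hd => core_comm (hD hd) hw)
  rw [← h.exc.derived, commutator_le]
  intro a ha b hb
  have ha' : a ∈ (↑(D ⊔ bW p E) : Set G) := hsup ha
  have hb' : b ∈ (↑(D ⊔ bW p E) : Set G) := hsup hb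
  rw [coe_mul_of_right_le_normalizer_left _ _ hWn] at ha' hb'
  obtain ⟨d, hd, w, hw, rfl⟩ := ha'
  obtain ⟨d', hd', w', hw', rfl⟩ := hb'
  have c1 : ∀ x ∈ D, ∀ y ∈ bW p E, x * y = y * x := fun x hx y hy => core_comm (hD hx) hy
  have f1 : (d * w) * (d' * w') = (d * d') * (w * w') := by
    rw [mul_assoc, ← mul_assoc w, ← c1 d' hd' w hw, mul_assoc, mul_assoc]
  have f2 : (d' * w') * (d * w) = (d' * d) * (w * w') := by
    rw [mul_assoc, ← mul_assoc w', ← c1 d hd w' hw', mul_assoc, bW_comm hw' hw, mul_assoc]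
  rw [commutatorElement_def, show d * w * (d' * w') * (d * w)⁻¹ * (d' * w')⁻¹ =
    (d * w * (d' * w')) * ((d' * w') * (d * w))⁻¹ by group, f1, f2,
    show d * d' * (w * w') * (d' * d * (w * w'))⁻¹ = d * d' * (d' * d)⁻¹ by group]
  exact mul_mem (mul_mem hd hd') (inv_mem (mul_mem hd' hd))

/-- `E/Q` is not abelian. -/
theorem Hard.exists_noncomm (h : Hard p (T : Subgroup G) E) (hE : IsBaumannBlock p (T : Subgroup G) E) :
    ∃ a ∈ E, ∃ b ∈ E, ⁅a, b⁆ ∉ pCoreOf p E := by
  obtain ⟨F, _, _, n, hn, -, ⟨R⟩, -⟩ := h.exists_reps hE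
  obtain ⟨a, ha, har⟩ := R.rho_surj _ (Lin.wW_mem hn)
  obtain ⟨b, hb, hbr⟩ := R.rho_surj _ BlockModule.gW_mem
  refine ⟨a, ha, b, hb, fun hq => ?_⟩
  have h1 := (R.rho_eq_one _ (CfsgLib.LocalEven.pCoreOf_le p E hq)).2 hq
  rw [commutatorElement_def, R.rho_mul _ (mul_mem (mul_mem ha hb) (inv_mem ha)) _ (inv_mem hb),
    R.rho_mul _ (mul_mem ha hb) _ (inv_mem ha), R.rho_mul _ ha _ hb, R.rho_inv ha, R.rho_inv hb, har, hbr,
    ← commutatorElement_def, commutatorElement_eq_one_iff_mul_comm] at h1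
  have h2 := congrFun (congrArg (fun M => Lin.act M (![1, 0] : Fin 2 → F)) h1) 1
  simp only [Lin.act_mul, Lin.act_wW, Lin.act_gW] at h2
  norm_num at h2
  exact one_ne_zero (α := F) (by linear_combination -h2)

/-- A conjugate of `t` commuting with `t` modulo `O_p` lies in `tQ`. -/
theorem Hard.isolated (h : Hard p (T : Subgroup G) E) (hE : IsBaumannBlock p (T : Subgroup G) E)
    (ht : Inv p E t) {c : G} (hc : c ∈ cW p E) (hcomm : ⁅t, c * t * c⁻¹⁆ ∈ cV p E) :
    c * t * c⁻¹ * t ∈ pCoreOf p E := by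
  have hQV := h.core_le_cV hE
  set t' := c * t * c⁻¹ with ht'
  have ht'2 : t' * t' = 1 := conj_involution ht.sq c
  have ht'i : t'⁻¹ = t' := inv_eq_of_mul_eq_one_right ht'2
  suffices hcn : c ∈ normalizer (E : Set G) by
    have h1 := inv_mem (commutator_mem_core hE hc hcn ht.mem)
    rwa [commutatorElement_inv, commutatorElement_def, ht.inv_eq] at h1
  have hcV : c ∈ normalizer (cV p E : Set G) := cW_le_normalizer_cV (le_normalizer hc)
  set z := t * t' with hz
  have hzC : z ∈ cW p E := by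
    have h1 := (mem_normalizer_iff.1 (normalizer_le_cW (le_normalizer ht.mem)) c).1 hc
    rw [hz, ht', show t * (c * t * c⁻¹) = (t * c * t) * c⁻¹ by group]
    rw [ht.inv_eq] at h1
    exact mul_mem h1 ((cW p E).inv_mem hc)
  have hzt : z * t * z⁻¹ * t ∈ cV p E := by
    rw [commutatorElement_def, ht.inv_eq, ht'i] at hcomm
    rw [hz, _root_.mul_inv_rev, ht'i, ht.inv_eq]
    simp only [← mul_assoc]
    rwa [mul_assoc (t * t' * t * t'), ht.sq, mul_one]
  obtain ⟨y, hy, z', hzy, hz't, -, -⟩ := exists_fix (fun x hx => h.odd_cV hx) ht.sq hzt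
  have hz'C : z' ∈ cW p E := by
    rw [show z' = y⁻¹ * z by rw [hzy]; group]; exact mul_mem ((cW p E).inv_mem (cV_le_cW hy)) hzC
  have hzn : z ∈ normalizer (E : Set G) := by
    rw [hzy]
    exact mul_mem (cV_le_normalizer hE hy)
      (h.normalizer_core_le hE hz'C (h.normalizer_of_comm hE ht (cW_le_normalizer_cV (le_normalizer hz'C)) hz't))
  have hEQ := CfsgLib.LocalEven.le_normalizer_pCoreOf p E
  have het' : ∀ e ∈ E, e * t' * e⁻¹ * t' ∈ pCoreOf p E := fun e he => by
    have h1 : t' = t * z := by rw [hz, ← mul_assoc, ht.sq, one_mul]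
    have h2 : ⁅e, t'⁆ ∈ pCoreOf p E := by
      rw [h1, show ⁅e, t * z⁆ = ⁅e, t⁆ * (t * ⁅e, z⁆ * t⁻¹) by simp only [commutatorElement_def]; group]
      exact mul_mem (ht.central e he)
        (Baumann.conj_mem_of_le_normalizer hEQ ht.mem (commutator_mem_core hE hzC hzn he))
    rwa [commutatorElement_def, ht'i] at h2
  -- the conjugated block normalises `Q`
  have hbn : ∀ e ∈ E, c⁻¹ * e * c ∈ normalizer (pCoreOf p E : Set G) := by
    intro e he
    obtain ⟨y, hy, e', hey, he't, -, -⟩ :=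
      exists_fix (fun x hx => h.odd_cV (hQV hx)) ht'2 (het' e he)
    have he'V : e' ∈ normalizer (cV p E : Set G) := by
      rw [show e' = y⁻¹ * e by rw [hey]; group]
      exact mul_mem (inv_mem (le_normalizer (hQV hy))) (normalizer_le_cV (le_normalizer he))
    have h1 : c⁻¹ * e' * c ∈ normalizer (pCoreOf p E : Set G) := by
      refine h.normalizer_of_comm hE ht (mul_mem (mul_mem (inv_mem hcV) he'V) hcV) ?_
      calc t * (c⁻¹ * e' * c) = c⁻¹ * ((c * t * c⁻¹) * e') * c := by group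
        _ = c⁻¹ * (e' * (c * t * c⁻¹)) * c := by rw [← ht', he't]
        _ = c⁻¹ * e' * c * t := by group
    have h2 : c⁻¹ * y * c ∈ normalizer (pCoreOf p E : Set G) :=
      Block.normalizer_le_pCoreOf E (cV_le_normalizer hE ((mem_normalizer_iff''.1 hcV y).1 (hQV hy)))
    rw [hey, show c⁻¹ * (y * e') * c = (c⁻¹ * y * c) * (c⁻¹ * e' * c) by group]
    exact mul_mem h2 h1
  set Q' := (pCoreOf p E).map (MulAut.conj c).toMonoidHom with hQ'
  have hmemQ' : ∀ x, x ∈ Q' ↔ c⁻¹ * x * c ∈ pCoreOf p E := fun x => by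
    rw [hQ', mem_map]
    constructor
    · rintro ⟨a, ha, rfl⟩; simpa [mul_assoc] using ha
    · exact fun hx => ⟨_, hx, by simp [mul_assoc]⟩
  have hEQ' : E ≤ normalizer (Q' : Set G) := fun e he => mem_normalizer_iff.2 fun x => by
    rw [hmemQ', hmemQ', mem_normalizer_iff.1 (hbn e he) (c⁻¹ * x * c)]
    rw [show c⁻¹ * e * c * (c⁻¹ * x * c) * (c⁻¹ * e * c)⁻¹ = c⁻¹ * (e * x * e⁻¹) * c by group]
  rcases h.exc.irr ((pCoreOf p E ⊓ Q') ⊔ bW p E) le_sup_right (sup_le inf_le_left (bW_le_core E))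
      (fun e he => CfsgLib.LocalEven.mem_normalizer_of_conj_le (le_of_eq_of_le (Subgroup.map_sup _ _ _)
        (sup_le_sup (mem_normalizer_iff_map_conj_eq.1 (Baumann.normalizer_inf_le _ _ ⟨hEQ he, hEQ' he⟩)).le
          (mem_normalizer_iff_map_conj_eq.1 (le_normalizer_bW E he)).le))) with h1 | h1
  swap
  · have hZ := h.derived_le inf_le_left h1.ge
    have hWE : bWE p E ≤ Q' := fun x hx => (hmemQ' x).2 (by
      rw [mul_assoc, mem_centralizer_iff.1 hc x hx, ← mul_assoc, inv_mul_cancel, one_mul]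
      exact bW_le_core E (bWE_le E hx))
    have hle : pCoreOf p E ≤ Q' := h1.ge.trans (sup_le inf_le_right ((bWE_sup hE).ge.trans
      (sup_le hWE (hZ.trans inf_le_right))))
    have heq : pCoreOf p E = Q' := eq_of_le_of_card_ge hle
      (le_of_eq (card_map_of_injective (MulAut.conj c).injective))
    exact h.normalizer_core_le hE hc (mem_normalizer_iff_map_conj_eq.2 heq.symm)
  exfalso
  have hAc : c ∈ normalizer (cA p E : Set G) := CfsgLib.LocalEven.Oz.normalizer_le _ hcV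
  have hmod : ∀ e ∈ E, c⁻¹ * e * c ∈ stab (pCoreOf p E) (bW p E) := fun e he => by
    refine mem_stab_of_le (bW_le_core E) (hbn e he) fun q hq => ?_
    set x := ⁅c * q * c⁻¹, e⁆ with hx
    have hqV : c * q * c⁻¹ ∈ cV p E := (mem_normalizer_iff.1 hcV q).1 (hQV hq)
    have hxQ : x ∈ pCoreOf p E := commutator_cV_le hE (commutator_mem_commutator hqV he)
    have hxQ' : x ∈ Q' := by
      have hq' : c * q * c⁻¹ ∈ Q' := (hmemQ' _).2 (by
        rw [show c⁻¹ * (c * q * c⁻¹) * c = q by group]; exact hq)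
      rw [hx, commutatorElement_def, mul_assoc _ e, mul_assoc (c * q * c⁻¹)]
      exact mul_mem hq' ((mem_normalizer_iff.1 (hEQ' he) _).1 (inv_mem hq'))
    have hxA : x ∈ cA p E := h.bW_le_cA hE (h1.le (mem_sup_left ⟨hxQ, hxQ'⟩))
    have hy : c⁻¹ * x * c ∈ cA p E := (mem_normalizer_iff''.1 hAc x).1 hxA
    rw [show ⁅q, c⁻¹ * e * c⁆ = c⁻¹ * x * c by rw [hx]; simp only [commutatorElement_def]; group]
    exact CfsgLib.LocalEven.Oz.mem_iff.2 ⟨(hmemQ' x).1 hxQ', fun s hs => cA_central hy (hQV hs),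
      (CfsgLib.LocalEven.Oz.mem_iff.1 hy).2.2⟩
  obtain ⟨a, ha, b, hb, hab⟩ := h.exists_noncomm hE
  refine hab (h.exc.free _ ?_ ?_)
  · rw [commutatorElement_def]; exact mul_mem (mul_mem (mul_mem ha hb) (inv_mem ha)) (inv_mem hb)
  set k := b⁻¹ * (c⁻¹ * b * c) with hk
  have hkC : k ∈ cW p E := by
    rw [hk, show b⁻¹ * (c⁻¹ * b * c) = (b⁻¹ * c⁻¹ * b) * c by group]
    exact mul_mem ((mem_normalizer_iff''.1 (normalizer_le_cW (le_normalizer hb)) _).1 ((cW p E).inv_mem hc)) hc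
  have hkn : k ∈ normalizer (E : Set G) :=
    h.normalizer_core_le hE hkC (mul_mem (inv_mem (hEQ hb)) (hbn b hb))
  have hbs : b = (c⁻¹ * b * c) * k⁻¹ := by rw [hk]; group
  have hQs : pCoreOf p E ≤ stab (pCoreOf p E) (bW p E) := fun x hx =>
    mem_stab_of_le (bW_le_core E) (le_normalizer hx) fun q hq =>
      inf_le_left (b := centralizer (E : Set G)) (h.exc.derived.le (commutator_mem_commutator hq hx))
  have hfin : ⁅a, b⁆ ∈ stab (pCoreOf p E) (bW p E) := by
    rw [hbs, show ⁅a, c⁻¹ * b * c * k⁻¹⁆ =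
      ⁅a, c⁻¹ * b * c⁆ * ((c⁻¹ * b * c) * ⁅a, k⁻¹⁆ * (c⁻¹ * b * c)⁻¹) by
        simp only [commutatorElement_def]; group]
    exact mul_mem (commutator_mem_stab (hmod b hb) (hEQ ha) (le_normalizer_bW E ha)).2
      (mul_mem (mul_mem (hmod b hb) (hQs (commutator_mem_core hE ((cW p E).inv_mem hkC) (inv_mem hkn) ha)))
        (inv_mem (hmod b hb)))
  exact hfin.2.2

/-- The difficult case. -/
theorem Hard.mem_normalizer (h : Hard p (T : Subgroup G) E) (hE : IsBaumannBlock p (T : Subgroup G) E)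
    (ht : Inv p E t) {c : G} (hc : c ∈ cW p E) : c ∈ normalizer (E : Set G) := by
  classical
  set S := normalizer (E : Set G) ⊔ cW p E with hS
  set V := cV p E with hV
  have hCS : cW p E ≤ S := le_sup_right
  have hSV : S ≤ normalizer (V : Set G) := sup_le normalizer_le_cV (le_normalizer.trans cW_le_normalizer_cV)
  have hSC : S ≤ normalizer (cW p E : Set G) := sup_le normalizer_le_cW le_normalizer
  haveI hVn : (V.subgroupOf S).Normal := normal_subgroupOf_of_le_normalizer hSV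
  haveI hCn : ((cW p E).subgroupOf S).Normal := normal_subgroupOf_of_le_normalizer hSC
  set π := QuotientGroup.mk' (V.subgroupOf S) with hπ
  have hπ1 : ∀ x : ↥S, π x = 1 ↔ (x : G) ∈ V := fun x => QuotientGroup.eq_one_iff x
  let tS : ↥S := ⟨t, mem_sup_left (le_normalizer ht.mem)⟩
  set τ := π tS with hτ
  have hτ2 : τ * τ = 1 := by rw [hτ, ← map_mul, hπ1]; show t * t ∈ V; rw [ht.sq]; exact one_mem V
  have hτi : τ⁻¹ = τ := inv_eq_of_mul_eq_one_right hτ2
  have htV : t ∉ V := fun h1 => ht.notQ (h.eq_one_of_sq h1 ht.sq ▸ one_mem _)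
  have hcoe : ∀ g : ↥S, ∃ a ∈ cW p E, ∃ n ∈ normalizer (E : Set G), (g : G) = a * n := by
    intro g
    have hg : (g : G) ∈ (↑(cW p E ⊔ normalizer (E : Set G)) : Set G) := by
      rw [sup_comm]; exact g.2
    rw [coe_mul_of_right_le_normalizer_left _ _ normalizer_le_cW] at hg
    obtain ⟨a, ha, n, hn, e⟩ := hg
    exact ⟨a, ha, n, hn, e.symm⟩
  have hiso : IsIsolatedInvolution τ := by
    refine ⟨orderOf_eq_prime (by rw [pow_two, hτ2]) fun h1 => htV ((hπ1 _).1 h1), fun g => ?_⟩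
    obtain ⟨g, rfl⟩ := QuotientGroup.mk'_surjective (V.subgroupOf S) g
    obtain ⟨a, ha, n, hn, hgan⟩ := hcoe g
    set a' : ↥S := ⟨a, hCS ha⟩
    have hconj : π (g * tS * g⁻¹) = π (a' * tS * a'⁻¹) := by
      rw [← mul_inv_eq_one, ← map_inv, ← map_mul, hπ1]
      show (g : G) * t * (g : G)⁻¹ * (a * t * a⁻¹)⁻¹ ∈ V
      rw [hgan, show a * n * t * (a * n)⁻¹ * (a * t * a⁻¹)⁻¹ = a * (n * t * n⁻¹ * t⁻¹) * a⁻¹ by group, ht.inv_eq]
      exact (mem_normalizer_iff.1 (cW_le_normalizer_cV (le_normalizer ha)) _).1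
        (h.core_le_cV hE (ht.uniq n hn))
    intro hcm
    rw [hτ, ← map_inv, ← map_mul, ← map_mul, hconj] at hcm ⊢
    have h1 : ⁅t, a * t * a⁻¹⁆ ∈ V := by
      have h2 : π ⁅tS, a' * tS * a'⁻¹⁆ = 1 := by
        rw [map_commutatorElement, commutatorElement_eq_one_iff_mul_comm]; exact hcm
      exact (hπ1 _).1 h2
    rw [← mul_inv_eq_one, ← map_inv, ← map_mul, hπ1]
    show a * t * a⁻¹ * t⁻¹ ∈ V
    rw [ht.inv_eq]
    exact h.core_le_cV hE (h.isolated hE ht ha h1)
  -- the odd section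
  set C' := ((cW p E).subgroupOf S).map π with hC'
  haveI : C'.Normal := hCn.map π (QuotientGroup.mk'_surjective _)
  haveI : (oddCore (↥S ⧸ V.subgroupOf S)).Normal :=
    haveI := CfsgLib.Cores.pPrimeCore_characteristic (G := ↥S ⧸ V.subgroupOf S) 2
    show (pPrimeCore 2 (↥S ⧸ V.subgroupOf S)).Normal from inferInstance
  set K := oddCore (↥S ⧸ V.subgroupOf S) ⊓ C' with hK
  haveI hKn : K.Normal := inferInstance
  have hKodd : Odd (Nat.card ↥K) :=
    Odd.of_dvd_nat CfsgLib.Cores.odd_card_oddCore (card_dvd_of_le inf_le_left)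
  haveI : Group.IsSolvable ↥K := Cfsg.Agent.S0205.result hKodd
  haveI := CfsgLib.Cores.pCore_characteristic (G := ↥K) p
  haveI := CfsgLib.Cores.pPrimeCore_characteristic (G := ↥K) p
  haveI hnP : ((pCore p ↥K).map K.subtype).Normal := inferInstance
  haveI hnF : ((pPrimeCore p ↥K).map K.subtype).Normal := inferInstance
  have hK1 : pCore p ↥K = ⊥ := by
    set P1 := (pCore p ↥K).map K.subtype with hP1
    set P2 := (P1.comap π).map S.subtype with hP2
    have hP2C : P2 ≤ cW p E := by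
      rintro _ ⟨x, hx, rfl⟩
      have h1 : π x ∈ C' := (inf_le_right : K ≤ C') (map_subtype_le _ hx)
      obtain ⟨y, hy, hyx⟩ := h1
      have h2 : π (y⁻¹ * x) = 1 := by rw [map_mul, map_inv, hyx, inv_mul_cancel]
      have := mul_mem (show (y : G) ∈ cW p E from hy) (cV_le_cW ((hπ1 _).1 h2))
      simpa using this
    have hP2p : IsPGroup p ↥P2 := by
      refine (IsPGroup.comap_of_ker_isPGroup ((CfsgLib.Cores.isPGroup_pCore p).map _) π ?_).map _
      rw [hπ, QuotientGroup.ker_mk']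
      exact isPGroup_cV.comap_subtype
    have hle : P2 ≤ V := by
      refine CfsgLib.LocalEven.le_pCoreOf hP2C hP2p (hCS.trans fun x hx => ?_)
      have h1 := (hnP.comap π).map S.subtype
      have := le_normalizer_map (H := P1.comap π) S.subtype
      rw [normalizer_eq_top, ← MonoidHom.range_eq_map, range_subtype] at this
      exact this hx
    refine (Subgroup.map_eq_bot_iff_of_injective _ K.subtype_injective).1 (eq_bot_iff.2 fun q hq => ?_)
    obtain ⟨x, rfl⟩ := QuotientGroup.mk'_surjective (V.subgroupOf S) q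
    exact mem_bot.2 ((hπ1 x).2 (hle ⟨x, hq, rfl⟩))
  set F1 := (pPrimeCore p ↥K).map K.subtype with hF1
  have hF1K : F1 ≤ K := map_subtype_le _
  set Fs := (F1.comap π).map S.subtype with hFs
  have hsec : Sec p E Fs := by
    refine ⟨fun x hx => ?_, ?_, ?_, ?_, ?_⟩
    · refine ⟨⟨x, hCS (cV_le_cW hx)⟩, ?_, rfl⟩
      show π _ ∈ F1
      rw [(hπ1 _).2 hx]; exact one_mem _
    · rintro _ ⟨x, hx, rfl⟩
      obtain ⟨y, hy, hyx⟩ := (inf_le_right : K ≤ C') (hF1K hx)
      have h2 : π (y⁻¹ * x) = 1 := by rw [map_mul, map_inv, hyx, inv_mul_cancel]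
      have := mul_mem (show (y : G) ∈ cW p E from hy) (cV_le_cW ((hπ1 _).1 h2))
      simpa using this
    · haveI := hnF.comap π
      have := le_normalizer_map (H := F1.comap π) S.subtype
      rw [normalizer_eq_top, ← MonoidHom.range_eq_map, range_subtype] at this
      exact (le_sup_left : normalizer (E : Set G) ≤ S).trans this
    all_goals
      have hrel : V.relIndex Fs = Nat.card ↥F1 := by
        have hVS : V = (V.subgroupOf S).map S.subtype :=
          (map_subgroupOf_eq_of_le ((cV_le_cW).trans hCS)).symm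
        have e1 := relIndex_map_map_of_injective (V.subgroupOf S) (F1.comap π) S.subtype_injective
        rw [← hVS, ← hFs] at e1
        have e2 := relIndex_comap (⊥ : Subgroup (↥S ⧸ V.subgroupOf S)) π (F1.comap π)
        rw [MonoidHom.comap_bot, show π.ker = V.subgroupOf S from QuotientGroup.ker_mk' _,
          map_comap_eq_self_of_surjective (QuotientGroup.mk'_surjective _), relIndex_bot_left] at e2
        exact e1.trans e2
      rw [hrel]
    · rw [card_map_of_injective K.subtype_injective]; exact CfsgLib.Cores.coprime_card_pPrimeCore p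
    · exact Odd.of_dvd_nat hKodd (card_dvd_of_le hF1K)
  have hτF : ∀ f ∈ F1, τ * f = f * τ := by
    intro f hf
    obtain ⟨x, rfl⟩ := QuotientGroup.mk'_surjective (V.subgroupOf S) f
    have h1 := h.sec_comm hE ht hsec (f := (x : G)) ⟨x, hf, rfl⟩
    have h2 : π (x * tS * x⁻¹ * tS) = 1 := (hπ1 _).2 h1
    rw [map_mul, map_mul, map_mul, map_inv] at h2
    have h3 := eq_inv_of_mul_eq_one_left h2
    rw [hτi, mul_inv_eq_iff_eq_mul] at h3
    exact h3.symm
  have hodd1 : ∀ y ∈ K, τ * y = y * τ → τ * y * τ = y⁻¹ → y = 1 := by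
    intro y hy hc1 hi1
    rw [hc1, mul_assoc, hτ2, mul_one] at hi1
    have h2 : y ^ 2 = 1 := by rw [pow_two]; nth_rewrite 2 [hi1]; rw [mul_inv_cancel]
    have h3 : orderOf y ∣ Nat.card ↥K := by
      have := orderOf_dvd_natCard (⟨y, hy⟩ : ↥K)
      rwa [Subgroup.orderOf_mk] at this
    refine orderOf_eq_one_iff.1 (Nat.eq_one_of_dvd_coprimes (Nat.coprime_two_left.2 hKodd) ?_ h3)
    exact orderOf_dvd_of_pow_eq_one h2
  have hinv : ∀ k, τ * (τ * k * τ * k⁻¹) * τ = (τ * k * τ * k⁻¹)⁻¹ := fun k => by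
    rw [show τ * (τ * k * τ * k⁻¹) * τ = (τ * τ) * k * τ * k⁻¹ * τ by group, hτ2, one_mul]
    simp [_root_.mul_inv_rev, hτi, mul_assoc]
  have hτK : ∀ k ∈ K, τ * k = k * τ := by
    intro k hk
    have huK : τ * k * τ * k⁻¹ ∈ K := by
      have h0 := hKn.conj_mem k hk τ
      rw [hτi] at h0
      exact mul_mem h0 (inv_mem hk)
    have hcent : ∀ f ∈ F1, (τ * k * τ * k⁻¹) * f = f * (τ * k * τ * k⁻¹) := by
      intro f hf
      have h1 : k⁻¹ * f * k ∈ F1 := by simpa using hnF.conj_mem f hf k⁻¹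
      calc (τ * k * τ * k⁻¹) * f = τ * k * (τ * (k⁻¹ * f * k)) * k⁻¹ := by group
        _ = τ * k * ((k⁻¹ * f * k) * τ) * k⁻¹ := by rw [hτF _ h1]
        _ = (τ * f) * k * τ * k⁻¹ := by group
        _ = _ := by rw [hτF f hf]; group
    have hcF : τ * k * τ * k⁻¹ ∈ F1 := by
      have h1 : (⟨_, huK⟩ : ↥K) ∈ centralizer (pPrimeCore p ↥K : Set ↥K) :=
        mem_centralizer_iff.2 fun f hf => Subtype.ext (hcent _ ⟨f, hf, rfl⟩).symm
      exact ⟨_, CfsgLib.LocalEven.Offender.centralizer_pPrimeCore_le_of_pCore_eq_bot hK1 h1, rfl⟩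
    have h4 := hodd1 _ huK (hτF _ hcF) (hinv k)
    rw [mul_inv_eq_one] at h4
    calc τ * k = τ * k * (τ * τ) := by rw [hτ2, mul_one]
      _ = (τ * k * τ) * τ := by group
      _ = k * τ := by rw [h4]
  set cS : ↥S := ⟨c, hCS hc⟩
  have hyK : τ * π cS * τ * (π cS)⁻¹ ∈ K := by
    refine ⟨?_, ?_⟩
    · have := CfsgLib.Invol.zstar hiso (π cS)
      rwa [hτi] at this
    · have h1 : π cS ∈ C' := ⟨cS, hc, rfl⟩
      have h0 := (inferInstance : C'.Normal).conj_mem _ h1 τ
      rw [hτi] at h0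
      exact mul_mem h0 (C'.inv_mem h1)
  have hy1 := hodd1 _ hyK (hτK _ hyK) (hinv _)
  have hcV' : t * c * t * c⁻¹ ∈ V :=
    (hπ1 (tS * cS * tS * cS⁻¹)).1 (by rw [map_mul, map_mul, map_mul, map_inv]; exact hy1)
  have hfix : c * t * c⁻¹ * t ∈ V := by
    have hct := (mem_normalizer_iff.1 (normalizer_le_cV (le_normalizer ht.mem)) _).1 hcV'
    rwa [ht.inv_eq, show t * (t * c * t * c⁻¹) * t = (t * t) * c * t * c⁻¹ * t by group, ht.sq, one_mul] at hct
  obtain ⟨y, hy, c', hcy, hc't, -, -⟩ := exists_fix (fun x hx => h.odd_cV hx) ht.sq hfix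
  have hc'C : c' ∈ cW p E := by
    rw [show c' = y⁻¹ * c by rw [hcy]; group]; exact mul_mem ((cW p E).inv_mem (cV_le_cW hy)) hc
  rw [hcy]
  exact mul_mem (cV_le_normalizer hE hy)
    (h.normalizer_core_le hE hc'C (h.normalizer_of_comm hE ht (cW_le_normalizer_cV (le_normalizer hc'C)) hc't))

/-- `C(W_E)` normalises the block. -/
theorem centralizer_bWE_le_normalizer (hG : centralizer (pCore p G : Set G) ≤ pCore p G)
    (hE : IsBaumannBlock p (T : Subgroup G) E) : cW p E ≤ normalizer (E : Set G) := by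
  intro c hc
  by_cases he : ⁅cV p E, E⁆ ≤ bW p E
  · exact mem_normalizer_of_easy hG hE he hc
  rcases core_eq_or_exc hE with h1 | h1
  · exact absurd ((commutator_cV_le hE).trans h1.le) he
  have h : Hard p (T : Subgroup G) E := ⟨hG, h1, he⟩
  obtain ⟨t, ht⟩ := h.exists_inv hE
  exact h.mem_normalizer hE ht hc

end CfsgLib.LocalEven.BlockCentral
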